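import Mathlib
import Cfsg.Agent.Lib.Perm.GeomPSL
import Cfsg.Agent.Lib.Comp.FStar
import Cfsg.Agent.Lib.Frob.Thompson

/-! Symmetric designs: fixed points and fixed blocks; designs with a doubly transitive group
containing an axial automorphism. -/

set_option autoImplicit false

namespace CfsgLib.Perm

open MulAction

theorem ncard_setOf_eq_sum {α : Type*} [Fintype α] (R : α → Prop) [DecidablePred R] :
    (({a | R a}.ncard : ℕ) : ℤ) = ∑ a, if R a then 1 else 0 := by
  rw [Set.ncard_eq_toFinset_card', Set.toFinset_ofPred, Finset.card_filter]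
  push_cast
  rfl

section Orbits
variable {G X Y : Type*} [Group G] [Finite G] [MulAction G X] [MulAction G Y] [Finite X] [Finite Y]

theorem card_orbits_eq_of_fix (h : ∀ g : G, {x : X | g • x = x}.ncard = {y : Y | g • y = y}.ncard) :
    Nat.card (orbitRel.Quotient G X) = Nat.card (orbitRel.Quotient G Y) := by
  classical
  have := Fintype.ofFinite G
  have := Fintype.ofFinite X
  have := Fintype.ofFinite Y
  have := Fintype.ofFinite (orbitRel.Quotient G X)
  have := Fintype.ofFinite (orbitRel.Quotient G Y)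
  have h1 := sum_card_fixedBy_eq_card_orbits_mul_card_group G X
  have h2 := sum_card_fixedBy_eq_card_orbits_mul_card_group G Y
  rw [Finset.sum_congr rfl (g := fun g => Fintype.card (fixedBy Y g)) fun g _ => by
    rw [← Nat.card_eq_fintype_card, ← Nat.card_eq_fintype_card]; exact h g, h2] at h1
  rw [Nat.card_eq_fintype_card, Nat.card_eq_fintype_card]
  exact (Nat.eq_of_mul_eq_mul_right Fintype.card_pos h1).symm

omit [Finite G] [Finite X] [Finite Y] in
theorem ncard_fix_prod (g : G) : {z : X × Y | g • z = z}.ncard =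
    {x : X | g • x = x}.ncard * {y : Y | g • y = y}.ncard := by
  rw [← Set.ncard_prod]
  congr 1
  ext ⟨x, y⟩
  simp

omit [Finite G] [Finite X] in
theorem card_orbits_prod_le_two
    (h : ∀ {x y x' y' : X}, x ≠ y → x' ≠ y' → ∃ g : G, g • x = x' ∧ g • y = y') :
    Nat.card (orbitRel.Quotient G (X × X)) ≤ 2 := by
  classical
  have : Function.Injective fun c : orbitRel.Quotient G (X × X) =>
      decide (c.out.1 = c.out.2) := fun c d e => by
    rw [← c.out_eq, ← d.out_eq]
    refine Quotient.sound (orbitRel_apply.2 ?_)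
    simp only [decide_eq_decide] at e
    by_cases hc : c.out.1 = c.out.2
    · by_cases hcd : d.out.1 = c.out.1
      · exact ⟨1, Prod.ext (by simpa using hcd) (by simp [← hc, ← e.1 hc, hcd])⟩
      · obtain ⟨g, hg, -⟩ := h hcd (Ne.symm hcd)
        exact ⟨g, Prod.ext hg (by rw [← hc, Prod.smul_snd, ← e.1 hc, hg])⟩
    · obtain ⟨g, h1, h2⟩ := h (fun e' => hc (e.2 e')) hc
      exact ⟨g, Prod.ext h1 h2⟩
  simpa using Nat.card_le_card_of_injective _ this

omit [Finite G] in
theorem exists_smul_eq_of_card_orbits_le_two (h : Nat.card (orbitRel.Quotient G Y) ≤ 2)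
    (R : Y → Prop) (hR : ∀ (g : G) y, R y → R (g • y)) {y0 y1 y2 : Y} (h0 : R y0) (h1 : ¬ R y1)
    (h2 : ¬ R y2) : ∃ g : G, g • y1 = y2 := by
  classical
  by_contra hc
  have hne : ∀ {y}, ¬ R y → (Quotient.mk _ y : orbitRel.Quotient G Y) ≠ Quotient.mk _ y0 :=
    fun {y} hy e => by
      obtain ⟨g, rfl⟩ := orbitRel_apply.1 (Quotient.exact e)
      exact hy (hR g _ h0)
  have hne' : (Quotient.mk _ y2 : orbitRel.Quotient G Y) ≠ Quotient.mk _ y1 := fun e =>
    hc (orbitRel_apply.1 (Quotient.exact e))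
  have := Set.ncard_le_card ({Quotient.mk _ y2, Quotient.mk _ y1, Quotient.mk _ y0} :
    Set (orbitRel.Quotient G Y))
  rw [Set.ncard_insert_of_notMem (by simp [hne', hne h2]), Set.ncard_pair (hne h1)] at this
  omega

theorem two_trans_of_fix (hf : ∀ g : G, {x : X | g • x = x}.ncard = {y : Y | g • y = y}.ncard)
    (h : ∀ {x y x' y' : X}, x ≠ y → x' ≠ y' → ∃ g : G, g • x = x' ∧ g • y = y')
    {x y x' y' : Y} (h1 : x ≠ y) (h2 : x' ≠ y') : ∃ g : G, g • x = x' ∧ g • y = y' := by
  have h3 := card_orbits_eq_of_fix (G := G) (X := X × X) (Y := Y × Y) fun g => by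
    rw [ncard_fix_prod, ncard_fix_prod, hf]
  obtain ⟨g, hg⟩ := exists_smul_eq_of_card_orbits_le_two (h3 ▸ card_orbits_prod_le_two h)
    (fun z => z.1 = z.2) (fun g z e => congrArg (g • ·) e) (y0 := (x, x)) (y1 := (x, y))
    (y2 := (x', y')) rfl h1 h2
  exact ⟨g, congrArg Prod.fst hg, congrArg Prod.snd hg⟩

end Orbits

section Design
variable {P L : Type*} [Fintype P] [Fintype L] {I : P → L → Prop} {k lam : ℕ}

omit [Fintype P] in
theorem sum_ind_mul_of_design [DecidableEq P] [∀ p l, Decidable (I p l)]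
    (rep : ∀ p, {l | I p l}.ncard = k)
    (pair : ∀ p q, p ≠ q → {l | I p l ∧ I q l}.ncard = lam) (p q : P) :
    ∑ l, (if I p l then (1 : ℤ) else 0) * (if I q l then 1 else 0) =
      lam + if p = q then (k - lam : ℤ) else 0 := by
  simp only [ite_zero_mul_ite_zero, mul_one]
  rw [← ncard_setOf_eq_sum]
  split_ifs with h
  · subst h; simp [rep]
  · simp [pair p q h]

theorem ncard_fix_eq_of_design (hc : Fintype.card P = Fintype.card L)
    (rep : ∀ p, {l | I p l}.ncard = k)
    (pair : ∀ p q, p ≠ q → {l | I p l ∧ I q l}.ncard = lam) (hlt : lam < k)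
    (σ : Equiv.Perm P) (τ : Equiv.Perm L) (h : ∀ p l, I (σ p) (τ l) ↔ I p l) :
    {p | σ p = p}.ncard = {l | τ l = l}.ncard := by
  classical
  let e := Fintype.equivOfCardEq hc
  let A : Matrix P P ℚ := Matrix.of fun p q => if I p (e q) then 1 else 0
  have hA : ∀ p q, (A * A.transpose) p q = lam + if p = q then (k - lam : ℚ) else 0 :=
    fun p q => by
    have := congrArg (Int.cast : ℤ → ℚ) (sum_ind_mul_of_design rep pair p q)
    push_cast at this
    rw [← this, ← e.sum_comp]
    rfl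
  have hu : IsUnit A := Matrix.vecMul_injective_iff_isUnit.1 fun x y hxy => by
    have h0 : Matrix.vecMul (x - y) (A * A.transpose) = 0 := by
      have : Matrix.vecMul x A = Matrix.vecMul y A := hxy
      rw [← Matrix.vecMul_vecMul, Matrix.sub_vecMul, this, sub_self, Matrix.zero_vecMul]
    have h1 : ∀ q, (∑ p, (x - y) p) * lam + (x - y) q * (k - lam) = 0 := fun q => by
      have := congrFun h0 q
      simpa only [Matrix.vecMul, dotProduct, hA, mul_add, Finset.sum_add_distrib, mul_ite, mul_zero,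
        Finset.sum_ite_eq', Finset.mem_univ, if_true, ← Finset.sum_mul, Pi.zero_apply] using this
    have hk : (0 : ℚ) < k - lam := sub_pos.2 (by exact_mod_cast hlt)
    have h2 := Finset.sum_congr rfl fun q (_ : q ∈ (Finset.univ : Finset P)) => h1 q
    rw [Finset.sum_add_distrib, ← Finset.sum_mul _ _ (k - lam : ℚ), Finset.sum_const_zero,
      Finset.sum_const, nsmul_eq_mul] at h2
    have h3 : ∑ p, (x - y) p = 0 := (mul_eq_zero_iff_right
      (show ((Finset.univ : Finset P).card : ℚ) * lam + (k - lam) ≠ 0 by positivity)).1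
      (by linear_combination h2)
    ext q
    have := h1 q
    rw [h3, zero_mul, zero_add, mul_eq_zero_iff_right hk.ne'] at this
    exact sub_eq_zero.1 this
  have hc : σ.permMatrix ℚ * A = A * (e.symm.permCongr τ).permMatrix ℚ := by
    rw [PEquiv.toMatrix_toPEquiv_mul, PEquiv.mul_toMatrix_toPEquiv]
    ext p q
    have := h p (τ.symm (e q))
    rw [τ.apply_symm_apply] at this
    exact if_congr (this.trans (by
      rw [show e ((e.symm.permCongr τ).symm q) = τ.symm (e q) from e.apply_symm_apply _]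
      rfl)) rfl rfl
  have h4 : (σ.permMatrix ℚ).trace = ((e.symm.permCongr τ).permMatrix ℚ).trace := by
    obtain ⟨u, hu⟩ := hu
    rw [← hu] at hc
    rw [← Units.mul_inv_cancel_right (σ.permMatrix ℚ) u, hc, Matrix.trace_mul_cycle,
      Units.inv_mul, one_mul]
  rw [Matrix.trace_permutation, Matrix.trace_permutation, Nat.cast_inj] at h4
  refine h4.trans ?_
  rw [← Set.ncard_image_of_injective _ e.injective]
  congr 1
  ext l
  obtain ⟨q, rfl⟩ := e.surjective l
  simp [Function.IsFixedPt, Equiv.symm_apply_eq]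

theorem design_count (rep : ∀ p, {l | I p l}.ncard = k)
    (pair : ∀ p q, p ≠ q → {l | I p l ∧ I q l}.ncard = lam) {k' : ℕ}
    (size : ∀ l, {p | I p l}.ncard = k') (p : P) :
    (Fintype.card P : ℤ) * lam + (k - lam) = k * k' := by
  classical
  have h1 := Finset.sum_congr rfl fun q (_ : q ∈ (Finset.univ : Finset P)) =>
    sum_ind_mul_of_design rep pair p q
  rw [Finset.sum_comm] at h1
  simp only [← Finset.mul_sum, ← ncard_setOf_eq_sum, size, ← Finset.sum_mul, rep,
    Finset.sum_add_distrib, Finset.sum_const, Finset.card_univ, nsmul_eq_mul, Finset.sum_ite_eq,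
    Finset.mem_univ, if_true] at h1
  exact h1.symm

/-- symmetric designs with `k - λ ≥ 2` -/
structure SymDesign (I : P → L → Prop) (k lam : ℕ) : Prop where
  card_eq : Fintype.card P = Fintype.card L
  rep : ∀ p, {l | I p l}.ncard = k
  pair : ∀ p q, p ≠ q → {l | I p l ∧ I q l}.ncard = lam
  size : ∀ l, {p | I p l}.ncard = k
  inter : ∀ l m, l ≠ m → {p | I p l ∧ I p m}.ncard = lam
  le : lam + 2 ≤ k

namespace SymDesign

theorem dual (d : SymDesign I k lam) : SymDesign (fun l p => I p l) k lam :=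
  ⟨d.card_eq.symm, d.size, d.inter, d.rep, d.pair, d.le⟩

theorem blk_ext (d : SymDesign I k lam) {l m : L} (h : ∀ p, I p l → I p m) : l = m := by
  by_contra hne
  have h1 := d.inter l m hne
  rw [show {p | I p l ∧ I p m} = {p | I p l} from Set.ext fun p => and_iff_left_of_imp (h p),
    d.size] at h1
  have := d.le
  omega

theorem exists_two (d : SymDesign I k lam) {l m : L} (h : l ≠ m) :
    ∃ p q, p ≠ q ∧ I p l ∧ ¬ I p m ∧ I q l ∧ ¬ I q m := by
  have h1 := Set.ncard_inter_add_ncard_sdiff_eq_ncard {p | I p l} {p | I p m}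
  rw [show {p | I p l} ∩ {p | I p m} = {p | I p l ∧ I p m} from rfl, d.inter l m h, d.size] at h1
  have := d.le
  obtain ⟨p, q, hp, hq, hpq⟩ := (Set.one_lt_ncard_iff (s := {p | I p l} \ {p | I p m})).1
    (by omega)
  exact ⟨p, q, hpq, hp.1, hp.2, hq.1, hq.2⟩

variable {G : Type*} [Group G] [MulAction G P] [MulAction G L]

theorem ncard_fix (d : SymDesign I k lam) (hI : ∀ (g : G) p l, I (g • p) (g • l) ↔ I p l) (g : G) :
    {p : P | g • p = p}.ncard = {l : L | g • l = l}.ncard :=
  ncard_fix_eq_of_design d.card_eq d.rep d.pair (by have := d.le; omega) (toPerm g) (toPerm g)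
    (hI g)

theorem fix_blk (d : SymDesign I k lam) (hI : ∀ (g : G) p l, I (g • p) (g • l) ↔ I p l) {g : G}
    {B : L} (hB : ∀ p, I p B → g • p = p) : g • B = B :=
  (d.blk_ext fun p hp => by rw [← hB p hp, hI]; exact hp).symm

theorem mem_of_not_fix (d : SymDesign I k lam) (hI : ∀ (g : G) p l, I (g • p) (g • l) ↔ I p l)
    {g : G} {B D : L} (hB : ∀ p, I p B → g • p = p) (hD : g • D ≠ D) {x : P} (hx : g • x = x)
    (hxD : I x D) : I x B := by
  have hne : D ≠ B := fun e => hD (e ▸ d.fix_blk hI hB)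
  have := Set.eq_of_subset_of_ncard_le (s := {p | I p D ∧ I p B}) (t := {p | I p D ∧ I p (g • D)})
    (fun p hp => ⟨hp.1, by rw [← hB p hp.2, hI]; exact hp.1⟩)
    (by rw [d.inter _ _ hne, d.inter _ _ hD.symm])
  exact (this.ge ⟨hxD, by rw [← hx, hI]; exact hxD⟩).2

/-- an axial automorphism fixes at most one point off the axis -/
theorem fix_all (d : SymDesign I k lam) (hI : ∀ (g : G) p l, I (g • p) (g • l) ↔ I p l)
    {g : G} {B : L} (hB : ∀ p, I p B → g • p = p) {q q' : P} (hqq : q ≠ q') (hq : g • q = q)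
    (hq' : g • q' = q') (hqB : ¬ I q B) (hqB' : ¬ I q' B) (p : P) : g • p = p := by
  by_contra hp
  have hfix : ∀ {x E}, g • x = x → ¬ I x B → I x E → g • E = E := fun {x E} hx hxB hxE => by
    by_contra hE
    exact hxB (d.mem_of_not_fix hI hB hE hx hxE)
  have hsm : ∀ {x E}, g • E = E → I x E → I (g • x) E := fun {x E} hE hx => by
    rw [← hE, hI]; exact hx
  obtain ⟨C, -, -, hC, hC', -⟩ := d.dual.exists_two hqq
  have hCF : ∀ x, I x C → g • x = x := fun x hx => by
    by_contra hx'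
    have := Set.eq_of_subset_of_ncard_le (s := {E | I x E ∧ I q' E})
      (t := {E | I x E ∧ I (g • x) E}) (fun E hE => ⟨hE.1, hsm (hfix hq' hqB' hE.2) hE.1⟩)
      (by rw [d.pair _ _ (Ne.symm hx'), d.pair x q' fun e => hx' (e ▸ hq')])
    exact hC' (this.ge ⟨hx, hsm (hfix hq hqB hC) hx⟩).2
  have hBC : B ≠ C := fun e => hqB (e ▸ hC)
  have key : ∀ D, I p D → ¬ I (g • p) D → ∀ x, I x B ∧ I x C → I x D := fun D h1 h2 x hx => by
    have hD : g • D ≠ D := fun e => h2 (hsm e h1)
    have := Set.eq_of_subset_of_ncard_le (s := {x | I x D ∧ I x C}) (t := {x | I x B ∧ I x C})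
      (fun y hy => ⟨d.mem_of_not_fix hI hB hD (hCF y hy.2) hy.1, hy.2⟩)
      (by rw [d.inter _ _ hBC, d.inter D C fun e => hp (hCF p (e ▸ h1))])
    exact (this.ge hx).1
  obtain ⟨D, D', hDD, h1, h2, h3, h4⟩ := d.dual.exists_two (Ne.symm hp)
  have := Set.ncard_le_ncard (s := insert p {x | I x B ∧ I x C}) (t := {x | I x D ∧ I x D'})
    (Set.insert_subset ⟨h1, h3⟩ fun x hx => ⟨key D h1 h2 x hx, key D' h3 h4 x hx⟩)
  rw [Set.ncard_insert_of_notMem fun e => hp (hB p e.1), d.inter _ _ hBC, d.inter _ _ hDD] at this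
  omega

/-- an elation fixing a block `C` fixes all blocks through `B ∩ C` -/
theorem fix_of_elation (d : SymDesign I k lam) (hI : ∀ (g : G) p l, I (g • p) (g • l) ↔ I p l)
    {g : G} {B C D : L} (hB : ∀ p, g • p = p ↔ I p B) (hCB : C ≠ B) (hDB : D ≠ B)
    (hC : g • C = C) (hD : ∀ p, I p B → I p C → I p D) : g • D = D := by
  classical
  let a : P → L → ℤ := fun p l => if I p l then 1 else 0
  let f : L → ℤ := fun l => if g • l = l then 1 else 0
  let c : P → ℤ := fun p => ∑ E, f E * a p E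
  have hin : ∀ l m, ∑ p, a p l * a p m = lam + if l = m then (k - lam : ℤ) else 0 :=
    sum_ind_mul_of_design d.size d.inter
  have hsz : ∀ l, ∑ p, a p l = k := fun l => by rw [← d.size l, ncard_setOf_eq_sum]
  have hf : ∑ E, f E = k := by
    rw [← d.size B, ← ncard_setOf_eq_sum, ← d.ncard_fix hI g]
    congr 2
    exact Set.ext hB
  have hfB : f B = 1 := if_pos (d.fix_blk hI fun p => (hB p).2)
  have hle : ∀ p, 0 ≤ (1 - a p B) * (lam - c p) := fun p => by
    by_cases hp : I p B
    · simp [a, hp]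
    have h1 : c p = ({E | g • E = E ∧ I p E}.ncard : ℕ) := by
      simp only [c, f, a, ite_zero_mul_ite_zero, mul_one, ncard_setOf_eq_sum]
    have h2 := Set.ncard_le_ncard (s := {E | g • E = E ∧ I p E}) (t := {E | I p E ∧ I (g • p) E})
      fun E hE => ⟨hE.2, by rw [← hE.1, hI]; exact hE.2⟩
    rw [d.pair _ _ fun e => hp ((hB p).1 e.symm)] at h2
    simp only [a, hp, if_false, sub_zero, one_mul, h1]
    omega
  have hswap : ∀ u : P → ℤ, ∑ p, u p * c p = ∑ E, f E * ∑ p, u p * a p E := fun u => by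
    simp only [c, Finset.mul_sum]
    rw [Finset.sum_comm]
    exact Finset.sum_congr rfl fun _ _ => Finset.sum_congr rfl fun _ _ => by ring
  have hin' : ∀ l, ∑ E, f E * ∑ p, a p l * a p E = k * lam + f l * (k - lam) := fun l => by
    simp only [hin, mul_add, Finset.sum_add_distrib, ← Finset.sum_mul, hf, mul_ite, mul_zero,
      Finset.sum_ite_eq, Finset.mem_univ, if_true]
  obtain ⟨p0, -⟩ := d.exists_two hCB
  have hzero := (Finset.sum_eq_zero_iff_of_nonneg fun p _ => hle p).1
    (show ∑ p ∈ Finset.univ, (1 - a p B) * (lam - c p) = 0 by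
      have h1 := hswap fun _ => 1
      have h2 := hswap fun p => a p B
      rw [hin', hfB] at h2
      simp only [one_mul, hsz, ← Finset.sum_mul, hf] at h1
      simp only [sub_mul, mul_sub, one_mul, Finset.sum_sub_distrib, ← Finset.sum_mul, hsz, h1, h2,
        Finset.sum_const, Finset.card_univ, nsmul_eq_mul]
      linear_combination design_count d.rep d.pair d.size p0)
  have hS : ∀ E, E ≠ B → k * lam + f E * (k - lam) - ∑ p, a p E * a p B * c p =
      (k - lam) * lam := fun E hE => by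
    have h1 := hin E B
    rw [if_neg hE, add_zero] at h1
    rw [← hin', ← hswap, ← Finset.sum_sub_distrib]
    conv_rhs => rw [← hsz E]; enter [1, 2]; rw [← h1]
    rw [← Finset.sum_sub_distrib, Finset.sum_mul]
    exact Finset.sum_congr rfl fun p hp => by linear_combination -a p E * hzero p hp
  have h1 := Set.eq_of_subset_of_ncard_le (s := {p | I p C ∧ I p B}) (t := {p | I p D ∧ I p B})
    (fun p hp => ⟨hD p hp.2 hp.1, hp.2⟩) (by rw [d.inter _ _ hCB, d.inter _ _ hDB])
  have h2 : ∀ p, a p D * a p B = a p C * a p B := fun p => by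
    simp only [a, ite_zero_mul_ite_zero]
    exact if_congr (Set.ext_iff.1 h1 p).symm rfl rfl
  have h3 := hS D hDB
  have h4 := hS C hCB
  simp only [h2] at h3
  by_contra hne
  rw [show f D = 0 from if_neg hne] at h3
  rw [show f C = 1 from if_pos hC] at h4
  have := d.le
  omega

end SymDesign

end Design

section TI
variable {G X : Type*} [Group G] [MulAction G X] {N : X → Subgroup G}

theorem StabFam.exists_smul_ne' (h : StabFam N) {x y : X} (hxy : x ≠ y) :
    ∃ n ∈ N x, n • y ≠ y := by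
  obtain ⟨n, hn, hn1, -⟩ := h.exists_ne_one hxy
  by_contra hc
  push Not at hc
  refine hn1 (h.faith n fun z => ?_)
  by_cases hxz : x = z
  · exact hxz ▸ h.fix hn
  obtain ⟨g, hg, rfl⟩ := h.two hxy hxz
  have := hc _ (h.conj_inv hg hn)
  rwa [mul_smul, mul_smul, inv_smul_eq_iff] at this

theorem StabTI.comm_of_mem_blk [Finite G] (h : StabTI N) {x y : X} (hxy : x ≠ y) {a : G}
    (ha : a ∈ N x) (hay : a • y ≠ y) (hb : a • y ∈ blk N x y) {k k' : G} (hk : k ∈ N x)
    (hky : k • y = y) (hk' : k' ∈ N x) (hky' : k' • y = y) : k * k' = k' * k := by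
  have key : ∀ l ∈ N y, l • x = x → ∀ l' ∈ N y, l' • x = x → l * l' = l' * l := by
    intro l hl hlx l' hl' hlx'
    have h1 : (a * l * a⁻¹) • x = x := by rw [mul_smul, h.fix (inv_mem ha), mul_smul, hlx, h.fix ha]
    have hxa : x ≠ a • y := h.norb_ne hxy ⟨a, ha, rfl⟩
    have h2 : (a * l * a⁻¹) • y = y :=
      h.fix_blk' hxa (h.conj a hl) h1 (h.mem_blk_symm hxy hxa hb)
    have h3 := h.commute hay (h.conj a hl) h2 hl' (h.fix_blk' hxy hl' hlx' hb)
    have h4 := h.commute hxy (k := a * l * a⁻¹ * l⁻¹)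
      (by simpa only [mul_assoc] using mul_mem ha (h.conj' hlx (inv_mem ha)))
      (by rw [mul_smul, h.fix (inv_mem hl), h2]) hl' hlx'
    calc l * l' = l * ((a * l * a⁻¹)⁻¹ * (l' * (a * l * a⁻¹ * l⁻¹)) * l) := by
          rw [← mul_assoc l', ← h3]; group
      _ = l' * l := by rw [← h4]; group
  obtain ⟨g, h1, h2⟩ := h.two hxy hxy.symm
  have := key _ (h1 ▸ h.conj g hk) (by rw [← h2, conj_smul_smul, hky]) _ (h1 ▸ h.conj g hk')
    (by rw [← h2, conj_smul_smul, hky'])
  simp only [mul_assoc, inv_mul_cancel_left, mul_right_inj] at this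
  simpa [← mul_assoc] using this

end TI

theorem exists_abelian_of_nilpotent {G : Type*} [Group G] [Finite G] {M A : Subgroup G}
    (hle : A ≤ M) (hA : A ≠ ⊥) (hn : M ≤ Subgroup.normalizer (A : Set G))
    (hnil : Group.IsNilpotent A) : ∃ N : Subgroup G, N ≤ M ∧ N ≠ ⊥ ∧
      (∀ a ∈ N, ∀ b ∈ N, a * b = b * a) ∧
      Subgroup.normalizer (M : Set G) ≤ Subgroup.normalizer (N : Set G) := by
  have h1 := CfsgLib.Comp.le_map_fit hle hn hnil
  have := CfsgLib.Comp.map_fit_nilpotent M
  set F := (Cfsg.fittingSubgroup M).map M.subtype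
  have hF : Nontrivial F := (Subgroup.nontrivial_iff_ne_bot F).2 fun e => hA (le_bot_iff.1 (e ▸ h1))
  refine ⟨(Subgroup.center F).map F.subtype,
    (Subgroup.map_subtype_le _).trans (Subgroup.map_subtype_le _), fun e => ?_, ?_,
    (CfsgLib.Comp.normalizer_le_normalizer_map_fit M).trans
      (CfsgLib.Core.normalizer_le_normalizer_map_subtype_of_characteristic _)⟩
  · rw [Subgroup.map_eq_bot_iff_of_injective _ F.subtype_injective] at e
    have := CfsgLib.Core.inf_center_ne_bot_of_isNilpotent (G := F) (N := ⊤) top_ne_bot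
    exact this (by rw [e, inf_bot_eq])
  · rintro _ ⟨a, -, rfl⟩ _ ⟨b, hb, rfl⟩
    exact congrArg Subtype.val (Subgroup.mem_center_iff.1 hb a)

/-- A symmetric design with a group doubly transitive on blocks and containing a non-trivial
axial automorphism gives an O'Nan family on the blocks. -/
theorem SymDesign.exists_onan {P L : Type*} [Fintype P] [Fintype L] {I : P → L → Prop}
    {k lam : ℕ} {G : Type*} [Group G] [Finite G] [MulAction G P] [MulAction G L]
    [FaithfulSMul G P] (d : SymDesign I k lam) (hI : ∀ (g : G) p l, I (g • p) (g • l) ↔ I p l)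
    (h2 : ∀ {x y x' y' : L}, x ≠ y → x' ≠ y' → ∃ g : G, g • x = x' ∧ g • y = y')
    {B : L} {g : G} (hg1 : g ≠ 1) (hg : ∀ p, I p B → g • p = p) :
    ∃ N : L → Subgroup G, ONan N ∧ ∀ l, ∀ n ∈ N l, ∀ p, I p l → n • p = p := by
  let M : L → Subgroup G := fun l =>
    { carrier := {n | ∀ p, I p l → n • p = p}
      one_mem' := fun p _ => one_smul _ _
      mul_mem' := fun ha hb p hp => by rw [mul_smul, hb p hp, ha p hp]
      inv_mem' := fun ha p hp => inv_smul_eq_iff.2 (ha p hp).symm }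
  have hP : ∀ n : G, (∀ p : P, n • p = p) → n = 1 := fun n hn =>
    FaithfulSMul.eq_of_smul_eq_smul (α := P) (by simpa using hn)
  have hL : ∀ n : G, (∀ l : L, n • l = l) → n = 1 := fun n hn => hP n fun p =>
    (d.dual.blk_ext fun l hl => by rw [← hn l, hI]; exact hl).symm
  have : FaithfulSMul G L := ⟨fun {a b} h => inv_mul_eq_one.1 (hL _ fun l => by
    rw [mul_smul, ← h, inv_smul_smul])⟩
  have hnsr : ∀ n ∈ M B, ∃ C, C ≠ B ∧ n • C = C := fun n hn => by
    have h1 := Set.ncard_le_ncard (s := {p | I p B}) (t := {p : P | n • p = p}) hn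
    rw [d.size, d.ncard_fix hI] at h1
    have := d.le
    obtain ⟨C, hC, hCB⟩ := Set.exists_ne_of_one_lt_ncard (s := {l : L | n • l = l}) (by omega) B
    exact ⟨C, hCB, hC⟩
  have hconj : ∀ {l n} (s : G), n ∈ M l → s * n * s⁻¹ ∈ M (s • l) := fun {l n} s hn p hp => by
    rw [mul_smul, mul_smul, hn _ (by rwa [← hI s, smul_inv_smul]), smul_inv_smul]
  obtain ⟨C, hCB, hC⟩ := hnsr g hg
  have hT : StabTI M := ⟨⟨h2, hL, fun hn => d.fix_blk hI hn, hconj, B, C, hCB.symm, g, hg, hg1, hC⟩,
    fun {x y n} hxy hx hy => by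
      obtain ⟨q, q', h1, h3, h4, h5, h6⟩ := d.exists_two hxy.symm
      exact hP n (d.fix_all hI hx h1 (hy q h3) (hy q' h5) h4 h6)⟩
  obtain ⟨A, hle, hA, hn, hnil⟩ : ∃ A ≤ M B, A ≠ ⊥ ∧ M B ≤ Subgroup.normalizer (A : Set G) ∧
      Group.IsNilpotent A := by
    by_cases hh : ∃ m ∈ M B, m ≠ 1 ∧ ∃ q, ¬ I q B ∧ m • q = q
    · obtain ⟨m, hm, hm1, q, hqB, hq⟩ := hh
      have hnot : ∀ {s : G}, s • B = B → ¬ I (s • q) B := fun {s} hs e => hqB (by
        rwa [← hs, hI] at e)
      obtain ⟨K, -, hK, -, hK1, -, hKn⟩ := CfsgLib.Frob.exists_nilpotent_kernel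
        (H := stabilizer (M B) q) ⟨fun e => hm1 (congrArg Subtype.val
          (Subgroup.mem_bot.1 (e.le (show (⟨m, hm⟩ : M B) ∈ stabilizer (M B) q from hq)))),
          fun e => by
            obtain ⟨p, -, -, hp, -⟩ := d.exists_two hCB.symm
            obtain ⟨D, D', hDD, -, hD, -, hD'⟩ := d.dual.exists_two (l := p) (m := q)
              fun e => hqB (e ▸ hp)
            obtain ⟨E, -, -, hE, -⟩ := d.dual.exists_two (l := q) (m := p) fun e => hqB (e ▸ hp)
            have hBE : B ≠ E := fun e => hqB (e ▸ hE)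
            obtain ⟨D, hBD, hD⟩ : ∃ D, B ≠ D ∧ ¬ I q D := by
              by_cases h : B = D
              · exact ⟨D', h ▸ hDD, hD'⟩
              · exact ⟨D, h, hD⟩
            obtain ⟨s, hs, rfl⟩ := h2 hBE hBD
            have h3 : (s⁻¹ * m * s) • q = q :=
              e.ge (Subgroup.mem_top (⟨_, hT.conj_inv hs hm⟩ : M B))
            rw [mul_smul, mul_smul, inv_smul_eq_iff] at h3
            exact hm1 (hP m (d.fix_all hI hm (q' := s • q)
              (fun e1 => hD (by rw [e1, hI]; exact hE)) hq h3 hqB (hnot hs))),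
          fun s hs => eq_bot_iff.2 fun n hn => by
            have h3 := (Subgroup.mem_inf.1 hn).2
            rw [Subgroup.mem_pointwise_smul_iff_inv_smul_mem] at h3
            have h4 : ((s : G)⁻¹ * n * s) • q = q := by
              have : (s⁻¹ * n * s) • q = q := by simpa using h3
              exact this
            rw [mul_smul, mul_smul, inv_smul_eq_iff] at h4
            exact Subtype.ext (hP _ (d.fix_all hI n.2 (q' := (s : G) • q) (fun e => hs e.symm)
              hn.1 h4 hqB (hnot (hT.fix s.2))))⟩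
      refine ⟨K.map (M B).subtype, Subgroup.map_subtype_le _, fun e => hK1 ?_, ?_,
        CfsgLib.Core.isNilpotent_map _ _⟩
      · rwa [Subgroup.map_eq_bot_iff_of_injective _ (M B).subtype_injective] at e
      · have := Subgroup.le_normalizer_map (H := K) (M B).subtype
        rwa [Subgroup.normalizer_eq_top, ← MonoidHom.range_eq_map, Subgroup.range_subtype] at this
    · push Not at hh
      have hb : ∀ n ∈ M B, n • C ∈ blk M B C := fun n hn m hm hmC => by
        by_cases hm1 : m = 1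
        · rw [hm1, one_smul]
        refine d.fix_of_elation hI (fun p => ⟨fun hp => ?_, hm p⟩) hCB
          (hT.norb_ne hCB.symm ⟨n, hn, rfl⟩).symm hmC fun p h1 h3 => ?_
        · by_contra hc
          exact hh m hm hm1 p hc hp
        · rw [← hn p h1, hI]; exact h3
      obtain ⟨a, ha, haC⟩ := hT.exists_smul_ne' hCB.symm
      refine ⟨M B ⊓ stabilizer G C, inf_le_left, fun e => hg1 (e.le ⟨hg, hC⟩), fun n hn => ?_, ?_⟩
      · refine Subgroup.mem_normalizer_fintype fun m hm => ⟨hT.conj' (hT.fix hn) hm.1, ?_⟩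
        show _ • _ = _
        rw [mul_smul, mul_smul, hb _ (inv_mem hn) m hm.1 hm.2, smul_inv_smul]
      · let _ : CommGroup (M B ⊓ stabilizer G C : Subgroup G) :=
          { (inferInstance : Group _) with
            mul_comm := fun x y => Subtype.ext
              (hT.comm_of_mem_blk hCB.symm ha haC (hb a ha) x.2.1 x.2.2 y.2.1 y.2.2) }
        exact CommGroup.isNilpotent
  obtain ⟨N0, hle0, hN0, hab, hn0⟩ := exists_abelian_of_nilpotent hle hA hn hnil
  have hN : ∀ s ∈ stabilizer G B, ∀ n ∈ N0, s * n * s⁻¹ ∈ N0 := fun s hs n hn =>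
    (hn0 (Subgroup.mem_normalizer_fintype fun m hm => hT.conj' hs hm) n).1 hn
  obtain ⟨n, hn, hn1⟩ := (Subgroup.bot_or_exists_ne_one N0).resolve_left hN0
  refine ⟨_, onan_abelian (is_two_pretransitive_iff.2 h2) (fun m hm => hT.fix (hle0 hm)) hN hab
    ⟨n, hn, hn1, hnsr n (hle0 hn)⟩, fun l m hm => ?_⟩
  obtain ⟨s, rfl⟩ : ∃ s : G, s • B = l := by
    by_cases hl : B = l
    · exact ⟨1, by rw [one_smul, hl]⟩
    · exact (h2 hl (Ne.symm hl)).imp fun _ h => h.1
  have := hconj s (hle0 (hm s rfl))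
  rwa [show s * (s⁻¹ * m * s) * s⁻¹ = m by group] at this

/-- Ito's theorem: an intransitive fixed point free subgroup of index `n` in a doubly transitive
group of degree `n`, unfaithful on an orbit. -/
theorem ito_index_degree {G Ω : Type*} [Group G] [Finite G] [MulAction G Ω] [FaithfulSMul G Ω]
    [Finite Ω] (h2 : IsMultiplyPretransitive G Ω 2) (H : Subgroup G) (hidx : H.index = Nat.card Ω)
    (hnt : ¬ IsPretransitive H Ω) (hfix : ∀ a : Ω, ∃ h : H, h • a ≠ a)
    (hunf : ∃ a : Ω, ∃ h : H, h ≠ 1 ∧ ∀ b ∈ orbit H a, h • b = b) :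
    ∃ (m : ℕ) (F : Type) (_ : Field F) (_ : Fintype F), 2 ≤ m ∧
      Nat.card Ω = (Fintype.card F ^ (m + 1) - 1) / (Fintype.card F - 1) ∧
      ∃ N : Subgroup G, N.Normal ∧
        Nonempty (N ≃* Matrix.ProjectiveSpecialLinearGroup (Fin (m + 1)) F) ∧
        Subgroup.centralizer (N : Set G) = ⊥ := by
  classical
  obtain ⟨a, g, hg1, hg⟩ := hunf
  rw [is_two_pretransitive_iff] at h2
  have := Fintype.ofFinite Ω
  have := Fintype.ofFinite (G ⧸ H)
  let I : Ω → G ⧸ H → Prop := fun x c => ∃ s : G, (s : G ⧸ H) = c ∧ s • a = x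
  have hI' : ∀ (s : G) p l, I p l → I (s • p) (s • l) := by
    rintro s _ _ ⟨u, rfl, rfl⟩
    exact ⟨s * u, rfl, mul_smul _ _ _⟩
  have hI : ∀ (s : G) p l, I (s • p) (s • l) ↔ I p l := fun s p l =>
    ⟨fun h => by simpa using hI' s⁻¹ _ _ h, hI' s p l⟩
  have hB : ∀ p, I p ((1 : G) : G ⧸ H) ↔ p ∈ orbit H a := fun p => by
    constructor
    · rintro ⟨s, hs, rfl⟩
      exact ⟨⟨s, by simpa using QuotientGroup.eq.1 hs.symm⟩, rfl⟩
    · rintro ⟨s, rfl⟩
      exact ⟨s, (QuotientGroup.eq.2 (by simp)).symm, rfl⟩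
  have hcard : Fintype.card Ω = Fintype.card (G ⧸ H) := by
    rw [← Nat.card_eq_fintype_card, ← Nat.card_eq_fintype_card, ← hidx]; rfl
  obtain ⟨b, hb⟩ : ∃ b, b ∉ orbit H a := by
    by_contra hc
    push Not at hc
    exact hnt ((isPretransitive_iff_orbit_eq_univ a).2 (Set.eq_univ_of_forall hc))
  have hab : a ≠ b := fun e => hb (e ▸ mem_orbit_self a)
  have himg : ∀ {α : Type _} [MulAction G α] (s : G) {R R' : α → Prop},
      (∀ x, R' (s • x) ↔ R x) → {x | R' x}.ncard = {x | R x}.ncard := by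
    intro α _ s R R' h
    rw [← Set.ncard_image_of_injective {x | R x} (MulAction.injective s)]
    congr 1
    ext x
    obtain ⟨x, rfl⟩ := MulAction.surjective s x
    simp [h]
  have himg' : ∀ {α : Type _} [MulAction G α] (s : G) {R R' : α → Prop},
      (∀ x, R' (s • x) ↔ R x) → {x | R' x}.ncard = {x | R x}.ncard := by
    intro α _ s R R' h
    rw [← Set.ncard_image_of_injective {x | R x} (MulAction.injective s)]
    congr 1
    ext x
    obtain ⟨x, rfl⟩ := MulAction.surjective s x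
    simp [h]
  set k := {p | I p ((1 : G) : G ⧸ H)}.ncard with hk
  set lam := {l | I a l ∧ I b l}.ncard with hlam
  have size : ∀ l, {p | I p l}.ncard = k := fun l => by
    obtain ⟨s, rfl⟩ := QuotientGroup.mk_surjective l
    exact himg s fun x => by simpa using hI s x ((1 : G) : G ⧸ H)
  have pair : ∀ p q, p ≠ q → {l | I p l ∧ I q l}.ncard = lam := fun p q hpq => by
    obtain ⟨s, rfl, rfl⟩ := h2 hab hpq
    exact himg' s fun x => by rw [hI, hI]
  have rep' : ∀ p, {l | I p l}.ncard = {l | I a l}.ncard := fun p => by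
    by_cases hp : a = p
    · rw [hp]
    obtain ⟨s, rfl, -⟩ := h2 hp (Ne.symm hp)
    exact himg' s fun x => hI s a x
  have hv : (0 : ℤ) < Fintype.card Ω := by exact_mod_cast Fintype.card_pos_iff.2 ⟨a⟩
  have rep : ∀ p, {l | I p l}.ncard = k := fun p => by
    have h1 : ∑ p : Ω, ∑ l : G ⧸ H, (if I p l then (1 : ℤ) else 0) =
        ∑ l : G ⧸ H, ∑ p : Ω, (if I p l then (1 : ℤ) else 0) := Finset.sum_comm
    simp only [← ncard_setOf_eq_sum, rep', size, Finset.sum_const, Finset.card_univ, nsmul_eq_mul,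
      ← hcard] at h1
    rw [rep']
    exact_mod_cast mul_left_cancel₀ hv.ne' h1
  have hlt : lam < k := by
    rw [← rep a]
    exact Set.ncard_lt_ncard ⟨fun l hl => hl.1, fun h =>
      hb ((hB b).1 (h ((hB a).2 (mem_orbit_self a))).2)⟩
  have hfx : ∀ s : G, {p : Ω | s • p = p}.ncard = {l : G ⧸ H | s • l = l}.ncard := fun s =>
    ncard_fix_eq_of_design hcard rep pair hlt (toPerm s) (toPerm s) (hI s)
  have h2' : ∀ {x y x' y' : G ⧸ H}, x ≠ y → x' ≠ y' → ∃ g : G, g • x = x' ∧ g • y = y' :=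
    two_trans_of_fix hfx h2
  have hc1 := design_count rep pair size a
  have hk2 : 2 ≤ k := by
    obtain ⟨s, hs⟩ := hfix a
    exact (Set.one_lt_ncard_iff (s := {p | I p ((1 : G) : G ⧸ H)})).2
      ⟨_, _, (hB _).2 (mem_orbit a s), (hB a).2 (mem_orbit_self a), hs⟩
  have hv2 : k + 2 ≤ Fintype.card Ω := by
    obtain ⟨s, hs⟩ := hfix b
    have h1 := Set.ncard_add_ncard_compl {p | I p ((1 : G) : G ⧸ H)}
    have h3 := (Set.one_lt_ncard_iff (s := {p | I p ((1 : G) : G ⧸ H)}ᶜ)).2
      ⟨s • b, b, fun h => hb (by simpa using mem_orbit_of_mem_orbit s⁻¹ ((hB _).1 h)),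
        fun h => hb ((hB _).1 h), hs⟩
    rw [Nat.card_eq_fintype_card] at h1
    omega
  obtain ⟨l0, l1, hl⟩ : ∃ l0 l1 : G ⧸ H, l0 ≠ l1 :=
    Fintype.one_lt_card_iff.1 (by omega)
  have inter' : ∀ l m, l ≠ m → {p | I p l ∧ I p m}.ncard = {p | I p l0 ∧ I p l1}.ncard :=
    fun l m hlm => by
      obtain ⟨s, rfl, rfl⟩ := h2' hl hlm
      exact himg s fun x => by rw [hI, hI]
  have hc2 := design_count (I := fun l p => I p l) size inter' rep l0
  rw [← hcard] at hc2
  have hv3 : (k : ℤ) + 2 ≤ Fintype.card Ω := by exact_mod_cast hv2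
  have hl' : {p | I p l0 ∧ I p l1}.ncard = lam := by
    exact_mod_cast mul_left_cancel₀ (show (Fintype.card Ω : ℤ) - 1 ≠ 0 by omega)
      (show _ * ({p | I p l0 ∧ I p l1}.ncard : ℤ) = _ * (lam : ℤ) by linear_combination hc2 - hc1)
  have d : SymDesign I k lam := ⟨hcard, rep, pair, size, fun l m h => (inter' l m h).trans hl', by
    by_contra hc
    have h1 : (lam : ℤ) = k - 1 := by omega
    rw [h1] at hc1
    have h3 : ((k : ℤ) - 1) * (Fintype.card Ω - (k + 1)) = 0 := by linear_combination hc1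
    rcases mul_eq_zero.1 h3 with h | h <;> omega⟩
  obtain ⟨N, hN, -⟩ := d.exists_onan hI h2' (B := ((1 : G) : G ⧸ H)) (g := g)
    (fun e => hg1 (Subtype.ext e)) fun p hp => hg p ((hB p).1 hp)
  obtain ⟨F, _, _, n, hn, hc, L, h1, h3, h4⟩ := hN.main
  obtain ⟨m, rfl⟩ : ∃ m, n = m + 1 := ⟨n - 1, by omega⟩
  refine ⟨m, F, inferInstance, inferInstance, by omega, ?_, L, h1, h4, h3⟩
  rw [← hc, Nat.mul_div_cancel _ (Nat.sub_pos_of_lt Fintype.one_lt_card), ← hidx]
  rfl

end CfsgLib.Perm
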