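import Mathlib
import Cfsg.Agent.Lib.Perm.GeomDesign

/-! Finite projective planes: perspectivities, involutions and Wagner's lemma. -/

set_option autoImplicit false

namespace CfsgLib.Perm

open MulAction

section Orb
variable {G X : Type*} [Group G] [MulAction G X]

/-- orbit of a subgroup -/
def gorb (H : Subgroup G) (x : X) : Set X := {y | ∃ g ∈ H, g • x = y}

theorem gorb_eq (H : Subgroup G) (x : X) : gorb H x = orbit H x :=
  Set.ext fun _ => ⟨fun ⟨g, hg, e⟩ => ⟨⟨g, hg⟩, e⟩, fun ⟨g, e⟩ => ⟨g, g.2, e⟩⟩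

theorem card_eq_gorb_mul (H : Subgroup G) (x : X) :
    Nat.card H = (gorb H x).ncard * Nat.card ↥(H ⊓ stabilizer G x) := by
  rw [← Nat.card_congr (orbitProdStabilizerEquivGroup H x), Nat.card_prod, Nat.card_coe_set_eq,
    gorb_eq]
  congr 1
  have : stabilizer H x = (stabilizer G x).subgroupOf H := by ext; rfl
  rw [this, ← Subgroup.inf_subgroupOf_left]
  exact Nat.card_congr (Subgroup.subgroupOfEquivOfLe inf_le_left).toEquiv

theorem dvd_ncard_of_gorb [Finite X] (H : Subgroup G) {d : ℕ} (A : Set X)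
    (hA : ∀ g ∈ H, ∀ a ∈ A, g • a ∈ A) (h : ∀ a ∈ A, d ∣ (gorb H a).ncard) : d ∣ A.ncard := by
  induction hn : A.ncard using Nat.strong_induction_on generalizing A with
  | _ n ih =>
  rcases A.eq_empty_or_nonempty with e | ⟨a, ha⟩
  · rw [← hn, e, Set.ncard_empty]; exact dvd_zero _
  have hsub : gorb H a ⊆ A := by
    rintro _ ⟨g, hg, rfl⟩
    exact hA g hg a ha
  have h1 := Set.ncard_sdiff_add_ncard_of_subset hsub
  have hpos : 0 < (gorb H a).ncard := (Set.ncard_pos).2 ⟨a, 1, one_mem _, one_smul _ _⟩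
  rw [← hn, ← h1]
  refine dvd_add (ih _ (by omega) (A \ gorb H a) ?_ (fun b hb => h b hb.1) rfl) (h a ha)
  rintro g hg b ⟨hb, hb'⟩
  exact ⟨hA g hg b hb, fun ⟨k, hk, e⟩ => hb' ⟨g⁻¹ * k, mul_mem (inv_mem hg) hk, by
    rw [mul_smul, e, inv_smul_smul]⟩⟩

theorem ncard_gorb_of_free (H : Subgroup G) (x : X) (h : ∀ g ∈ H, g • x = x → g = 1) :
    (gorb H x).ncard = Nat.card H := by
  rw [card_eq_gorb_mul H x, show H ⊓ stabilizer G x = ⊥ from eq_bot_iff.2 fun g hg =>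
    h g hg.1 hg.2, Subgroup.card_bot, mul_one]

theorem isPrimePow_of_gorb [Finite G] {p : ℕ} (hp : p.Prime) {H : Subgroup G} (hH : IsPGroup p H)
    (x : X) (h : 1 < (gorb H x).ncard) : IsPrimePow (gorb H x).ncard := by
  have := Fact.mk hp
  obtain ⟨k, hk⟩ := IsPGroup.iff_card.1 hH
  obtain ⟨j, -, hj⟩ := (Nat.dvd_prime_pow hp).1 (hk ▸ Dvd.intro _ (card_eq_gorb_mul H x).symm)
  refine (isPrimePow_nat_iff _).2 ⟨p, j, hp, Nat.pos_of_ne_zero fun e => ?_, hj.symm⟩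
  rw [hj, e] at h
  exact lt_irrefl _ h

end Orb

variable {P L : Type*} [Fintype P] [Fintype L] {I : P → L → Prop} {n : ℕ}

namespace SymDesign

theorem join (d : SymDesign I (n + 1) 1) (p q : P) : ∃ l, I p l ∧ I q l := by
  by_cases h : p = q
  · obtain ⟨l, hl⟩ := (Set.ncard_pos (s := {l | I p l})).1 (by rw [d.rep]; omega)
    exact ⟨l, hl, h ▸ hl⟩
  · exact (Set.ncard_pos (s := {l | I p l ∧ I q l})).1 (by rw [d.pair p q h]; omega)

theorem uniq (d : SymDesign I (n + 1) 1) {p q : P} {l m : L} (h : p ≠ q) (h1 : I p l) (h2 : I q l)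
    (h3 : I p m) (h4 : I q m) : l = m :=
  (Set.ncard_le_one_iff (s := {l | I p l ∧ I q l})).1 (d.pair p q h).le ⟨h1, h2⟩ ⟨h3, h4⟩

theorem uniq' (d : SymDesign I (n + 1) 1) {p q : P} {l m : L} (h : l ≠ m) (h1 : I p l)
    (h2 : I p m) (h3 : I q l) (h4 : I q m) : p = q :=
  d.dual.uniq h h1 h2 h3 h4

theorem meet (d : SymDesign I (n + 1) 1) (l m : L) : ∃ p, I p l ∧ I p m := d.dual.join l m

theorem third (d : SymDesign I (n + 1) 1) (l : L) (c e : P) : ∃ y, I y l ∧ y ≠ c ∧ y ≠ e := by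
  by_contra h
  push Not at h
  have h1 := Set.ncard_le_ncard (s := {p | I p l}) (t := {c, e}) fun y hy =>
    (eq_or_ne y c).imp id (h y hy)
  have h2 := Set.ncard_insert_le c {e}
  have := d.le
  rw [d.size] at h1
  rw [Set.ncard_singleton] at h2
  omega

theorem ncard_punct (d : SymDesign I (n + 1) 1) {x : P} {l : L} (h : I x l) :
    {p | I p l ∧ p ≠ x}.ncard = n := by
  have := Set.ncard_sdiff_singleton_add_one (s := {p | I p l}) h
  rw [d.size] at this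
  exact Nat.succ_injective this

theorem two_le (d : SymDesign I (n + 1) 1) : 2 ≤ n := by have := d.le; omega

theorem card_points (d : SymDesign I (n + 1) 1) (p : P) : Fintype.card P = n ^ 2 + n + 1 := by
  have := design_count d.rep d.pair d.size p
  zify
  push_cast at this
  linear_combination this

end SymDesign

/-- the collineations with axis `a` -/
def axG (G : Type*) [Group G] {P L : Type*} [MulAction G P] (I : P → L → Prop) (a : L) :
    Subgroup G where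
  carrier := {g | ∀ p, I p a → g • p = p}
  one_mem' := fun p _ => one_smul _ _
  mul_mem' := fun ha hb p hp => by rw [mul_smul, hb p hp, ha p hp]
  inv_mem' := fun ha p hp => inv_smul_eq_iff.2 (ha p hp).symm

/-- the collineations with centre `c` -/
abbrev cenG (G : Type*) [Group G] {P L : Type*} [MulAction G L] (I : P → L → Prop) (c : P) :
    Subgroup G := axG G (fun l p => I p l) c

variable {G : Type*} [Group G] [MulAction G P] [MulAction G L]

/-- a faithful collineation group of a projective plane of order `n` -/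
structure PlaneAct (G : Type*) [Group G] [MulAction G P] [MulAction G L] (I : P → L → Prop)
    (n : ℕ) : Prop extends SymDesign I (n + 1) 1 where
  inc : ∀ (g : G) p l, I (g • p) (g • l) ↔ I p l
  faith : ∀ g : G, (∀ p : P, g • p = p) → g = 1

namespace PlaneAct

theorem dual (d : PlaneAct G I n) : PlaneAct G (fun l p => I p l) n :=
  ⟨d.toSymDesign.dual, fun g l p => d.inc g p l, fun g hg => d.faith g fun p =>
    (d.toSymDesign.dual.blk_ext fun l hl => by rw [← hg l, d.inc]; exact hl).symm⟩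

theorem inc_of_fix (d : PlaneAct G I n) {g : G} {p : P} {l : L} (hl : g • l = l) (h : I p l) :
    I (g • p) l := by rw [← hl, d.inc]; exact h

theorem fix_line (d : PlaneAct G I n) {g : G} {p q : P} {l : L} (h : p ≠ q) (hp : g • p = p)
    (hq : g • q = q) (h1 : I p l) (h2 : I q l) : g • l = l :=
  d.uniq h (d.dual.inc_of_fix hp h1) (d.dual.inc_of_fix hq h2) h1 h2

theorem fix_point (d : PlaneAct G I n) {g : G} {p : P} {l m : L} (h : l ≠ m) (hl : g • l = l)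
    (hm : g • m = m) (h1 : I p l) (h2 : I p m) : g • p = p :=
  d.dual.fix_line h hl hm h1 h2

theorem ax_fix (d : PlaneAct G I n) {g : G} {a : L} (h : g ∈ axG G I a) : g • a = a :=
  d.fix_blk d.inc h

theorem cen_fix (d : PlaneAct G I n) {g : G} {c : P} (h : g ∈ cenG G I c) : g • c = c :=
  d.dual.ax_fix h

theorem ax_conj (d : PlaneAct G I n) {g : G} {a : L} (s : G) (h : g ∈ axG G I a) :
    s * g * s⁻¹ ∈ axG G I (s • a) := fun p hp => by
  rw [mul_smul, mul_smul, h _ (by rwa [← d.inc s, smul_inv_smul]), smul_inv_smul]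

theorem cen_conj (d : PlaneAct G I n) {g : G} {c : P} (s : G) (h : g ∈ cenG G I c) :
    s * g * s⁻¹ ∈ cenG G I (s • c) := d.dual.ax_conj s h

theorem eq_one_of_two_ax (d : PlaneAct G I n) {g : G} {a b : L} (hab : a ≠ b)
    (ha : g ∈ axG G I a) (hb : g ∈ axG G I b) : g = 1 := by
  obtain ⟨q, q', h1, h3, h4, h5, h6⟩ := d.exists_two hab.symm
  exact d.faith g (d.fix_all d.inc ha h1 (hb q h3) (hb q' h5) h4 h6)

theorem eq_one_of_two_cen (d : PlaneAct G I n) {g : G} {a b : P} (hab : a ≠ b)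
    (ha : g ∈ cenG G I a) (hb : g ∈ cenG G I b) : g = 1 := d.dual.eq_one_of_two_ax hab ha hb

theorem cen_of_fix (d : PlaneAct G I n) {g : G} {a : L} {p : P} (ha : g ∈ axG G I a)
    (hp : g • p = p) (hpa : ¬ I p a) : g ∈ cenG G I p := fun l hl => by
  obtain ⟨y, h1, h2⟩ := d.meet l a
  exact d.fix_line (fun e : p = y => hpa (e ▸ h2)) hp (ha y h2) hl h1

theorem eq_one_of_fix (d : PlaneAct G I n) {g : G} {a : L} {c p : P} (hc : g ∈ cenG G I c)
    (ha : g ∈ axG G I a) (hp : g • p = p) (hpa : ¬ I p a) (hpc : p ≠ c) : g = 1 :=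
  d.eq_one_of_two_cen hpc (d.cen_of_fix ha hp hpa) hc

theorem exists_cen (d : PlaneAct G I n) {g : G} {a : L} (ha : g ∈ axG G I a) :
    ∃ c, g ∈ cenG G I c := by
  by_cases h : ∃ c, g • c = c ∧ ¬ I c a
  · obtain ⟨c, h1, h2⟩ := h
    exact ⟨c, d.cen_of_fix ha h1 h2⟩
  push Not at h
  have key : ∀ p, ¬ I p a → ∃ l, I p l ∧ g • l = l := fun p hp => by
    obtain ⟨l, h1, h2⟩ := d.join p (g • p)
    obtain ⟨z, h3, h4⟩ := d.meet l a
    refine ⟨l, h1, d.uniq (p := g • p) (q := z) (fun e => hp (h p ?_)) ((d.inc g p l).2 h1)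
      (d.dual.inc_of_fix (ha z h4) h3) h2 h3⟩
    exact smul_left_cancel g (by rw [e, ha z h4])
  obtain ⟨y, hy, -⟩ := d.meet a a
  obtain ⟨l0, -, hl0, -⟩ := d.dual.third y a a
  obtain ⟨p, -, -, -, hp, -⟩ := d.exists_two hl0
  obtain ⟨l, hl, hl'⟩ := key p hp
  obtain ⟨c, h1, h2⟩ := d.meet l a
  refine ⟨c, fun m hm => ?_⟩
  by_cases hma : m = a
  · rw [hma, d.ax_fix ha]
  obtain ⟨q, -, -, hq, hq', -⟩ := d.exists_two hma
  obtain ⟨l', h3, h4⟩ := key q hq'
  have hc : I c l' := by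
    by_cases e : l = l'
    · exact e ▸ h1
    obtain ⟨z, h5, h6⟩ := d.meet l l'
    rwa [d.uniq' (fun e : l = a => hp (e ▸ hl)) h1 h2 h5 (h z (d.fix_point e hl' h4 h5 h6))]
  rwa [d.uniq (fun e : q = c => hq' (e ▸ h2)) hq hm h3 hc]

theorem el_mul (d : PlaneAct G I n) {g h : G} {a : L} {c e p : P} (hg : g ∈ axG G I a)
    (hh : h ∈ axG G I a) (hc : g ∈ cenG G I c) (he : h ∈ cenG G I e) (hca : I c a) (hea : I e a)
    (hp : (g * h) • p = p) (hpa : ¬ I p a) : g * h = 1 := by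
  have hpc : p ≠ c := fun e => hpa (e ▸ hca)
  have hpe : p ≠ e := fun e => hpa (e ▸ hea)
  by_cases hce : c = e
  · exact d.eq_one_of_fix (mul_mem hc (hce ▸ he)) (mul_mem hg hh) hp hpa hpc
  obtain ⟨l, h1, h2⟩ := d.join p c
  obtain ⟨m, h3, h4⟩ := d.join p e
  have h5 : h • p = p := d.uniq' (l := l) (m := m)
    (fun e1 => hpa (d.uniq hce h2 (e1 ▸ h4) hca hea ▸ h1))
    (by rw [eq_inv_smul_iff.2 ((mul_smul g h p).symm.trans hp)]
        exact d.inc_of_fix (inv_mem hc l h2) h1)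
    (d.inc_of_fix (he m h4) h3) h1 h3
  rw [mul_smul, h5] at hp
  rw [d.eq_one_of_fix hc hg hp hpa hpc, d.eq_one_of_fix he hh h5 hpa hpe, mul_one]

/-- the elations with axis `a` -/
def el (d : PlaneAct G I n) (a : L) : Subgroup G where
  carrier := {g | g ∈ axG G I a ∧ ∃ c, I c a ∧ g ∈ cenG G I c}
  one_mem' := ⟨one_mem _, (d.meet a a).imp fun _ h => ⟨h.1, one_mem _⟩⟩
  inv_mem' := fun ⟨h1, c, h2, h3⟩ => ⟨inv_mem h1, c, h2, inv_mem h3⟩
  mul_mem' := by
    rintro g h ⟨h1, c, h2, h3⟩ ⟨h4, e, h5, h6⟩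
    obtain ⟨z, hz⟩ := d.exists_cen (mul_mem h1 h4)
    refine ⟨mul_mem h1 h4, ?_⟩
    by_cases hza : I z a
    · exact ⟨z, hza, hz⟩
    · exact ⟨c, h2, d.el_mul h1 h4 h3 h6 h2 h5 (d.cen_fix hz) hza ▸ one_mem _⟩

theorem el_free (d : PlaneAct G I n) {g : G} {a : L} {p : P} (hg : g ∈ d.el a) (hp : g • p = p)
    (hpa : ¬ I p a) : g = 1 := by
  obtain ⟨h1, c, h2, h3⟩ := hg
  exact d.eq_one_of_fix h3 h1 hp hpa fun e => hpa (e ▸ h2)

theorem card_dvd (d : PlaneAct G I n) {c : P} {a : L} (h : I c a) :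
    Nat.card (cenG G I c ⊓ axG G I a : Subgroup G) ∣ n := by
  obtain ⟨l, h1, h2, -⟩ := d.dual.third c a a
  rw [← d.ncard_punct h1]
  refine dvd_ncard_of_gorb (cenG G I c ⊓ axG G I a) _ (fun g hg p hp => ⟨d.inc_of_fix (hg.1 l h1) hp.1, fun e => hp.2
    (smul_left_cancel g (e.trans (d.cen_fix hg.1).symm))⟩) fun p hp => ?_
  rw [ncard_gorb_of_free (cenG G I c ⊓ axG G I a) _ fun g hg e => d.eq_one_of_fix hg.1 hg.2 e
    (fun e1 => hp.2 (d.uniq' h2 hp.1 e1 h1 h)) hp.2]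

theorem orderOf_dvd (d : PlaneAct G I n) {g : G} {a : L} (hg : g ∈ d.el a) : orderOf g ∣ n := by
  obtain ⟨h1, c, h2, h3⟩ := hg
  exact (Subgroup.orderOf_dvd_natCard _ (Subgroup.mem_inf.2 ⟨h3, h1⟩)).trans (d.card_dvd h2)

/-- there is an involution with centre `c` and axis `a` -/
def Hom (G : Type*) [Group G] [MulAction G P] [MulAction G L] (I : P → L → Prop) (c : P) (a : L) :
    Prop := ∃ σ : G, σ ≠ 1 ∧ σ * σ = 1 ∧ σ ∈ cenG G I c ∧ σ ∈ axG G I a

omit [Fintype P] [Fintype L] in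
theorem Hom.dual {c : P} {a : L} (h : Hom G I c a) : Hom G (fun l p => I p l) a c :=
  h.imp fun _ h => ⟨h.1, h.2.1, h.2.2.2, h.2.2.1⟩

theorem not_inc_of_hom (d : PlaneAct G I n) (hn : Odd n) {c : P} {a : L} (h : Hom G I c a) :
    ¬ I c a := fun hc => by
  obtain ⟨σ, h1, h2, h3, h4⟩ := h
  have := d.orderOf_dvd (g := σ) ⟨h4, c, hc, h3⟩
  rw [orderOf_eq_prime (p := 2) (by rw [sq, h2]) h1] at this
  exact (Nat.not_even_iff_odd.2 hn) (even_iff_two_dvd.2 this)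

theorem andre (d : PlaneAct G I n) (hn : Odd n) {c e : P} {a : L} (hc : Hom G I c a)
    (he : Hom G I e a) : ∃ τ ∈ d.el a, τ • e = c := by
  have hca := d.not_inc_of_hom hn hc
  have hea := d.not_inc_of_hom hn he
  obtain ⟨σ, h1, h2, h3, h4⟩ := hc
  obtain ⟨σ', h1', h2', h3', h4'⟩ := he
  by_cases hce : c = e
  · exact ⟨1, one_mem _, by rw [one_smul, hce]⟩
  have i1 : σ⁻¹ = σ := inv_eq_of_mul_eq_one_right h2
  have i2 : σ'⁻¹ = σ' := inv_eq_of_mul_eq_one_right h2'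
  have hρ : σ * σ' ∈ d.el a := by
    obtain ⟨z, hz⟩ := d.exists_cen (mul_mem h4 h4')
    by_cases hρ1 : σ * σ' = 1
    · rw [hρ1]; exact one_mem _
    refine ⟨mul_mem h4 h4', z, ?_, hz⟩
    by_contra hza
    have key : ∀ {s : G} {u : P}, s ≠ 1 → s ∈ cenG G I u → s ∈ axG G I a →
        s * (σ * σ') * s⁻¹ = (σ * σ')⁻¹ → z = u := fun {s u} k1 k2 k3 k4 => by
      by_contra hzu
      refine k1 (d.eq_one_of_fix k2 k3 ?_ hza hzu)
      by_contra hne
      have := d.cen_conj s hz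
      rw [k4] at this
      exact hρ1 (d.eq_one_of_two_cen hne (inv_mem_iff.1 this) hz)
    exact hce ((key h1 h3 h4 (by rw [mul_inv_rev, i1, i2, ← mul_assoc, h2, one_mul])).symm.trans
      (key h1' h3' h4' (by rw [mul_inv_rev, i1, i2, mul_assoc, mul_assoc, h2', mul_one])))
  obtain ⟨j, hj⟩ := hn.of_dvd_nat (d.orderOf_dvd hρ)
  refine ⟨(σ * σ') ^ (j + 1), pow_mem hρ _, ?_⟩
  by_contra hne
  refine h1 (d.eq_one_of_fix h3 h4 ?_ (fun h => hea ?_) hne)
  · have k1 : σ * (σ * σ') * σ⁻¹ = (σ * σ')⁻¹ := by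
      rw [mul_inv_rev, i1, i2, ← mul_assoc, h2, one_mul]
    have k2 : σ * (σ * σ') ^ (j + 1) * σ⁻¹ = (σ * σ') ^ j := by
      rw [← conj_pow, k1, inv_pow, inv_eq_iff_mul_eq_one, ← pow_add, ← pow_orderOf_eq_one (σ * σ'),
        hj]
      congr 1
      ring
    rw [← mul_smul, mul_inv_eq_iff_eq_mul.1 k2, pow_succ, mul_smul, mul_smul, mul_smul,
      d.cen_fix h3']
  · rwa [← d.ax_fix (pow_mem hρ (j + 1)).1, d.inc] at h

theorem el_comm (d : PlaneAct G I n) {g h : G} {a : L} {c e : P} (hg : g ∈ axG G I a)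
    (hh : h ∈ axG G I a) (hc : g ∈ cenG G I c) (he : h ∈ cenG G I e) (hca : I c a) (hea : I e a)
    (hce : c ≠ e) : g * h = h * g := by
  have h1 := d.cen_conj g he
  have h2 := d.cen_conj h (inv_mem hc)
  rw [hg e hea] at h1
  rw [hh c hca] at h2
  have := d.eq_one_of_two_cen hce (g := g * h * g⁻¹ * h⁻¹)
    (by simpa only [mul_assoc] using mul_mem hc h2) (mul_mem h1 (inv_mem he))
  rwa [mul_inv_eq_one, mul_inv_eq_iff_eq_mul] at this

theorem el_pow (d : PlaneAct G I n) {g h : G} {a : L} {c e : P} {p : ℕ} (hg : g ∈ axG G I a)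
    (hh : h ∈ axG G I a) (hc : g ∈ cenG G I c) (he : h ∈ cenG G I e) (hca : I c a) (hea : I e a)
    (hce : c ≠ e) (hg1 : g ≠ 1) (hp : g ^ p = 1) : h ^ p = 1 := by
  obtain ⟨z, hz⟩ := d.exists_cen (mul_mem hg hh)
  by_cases hze : z = e
  · exact absurd (d.eq_one_of_two_cen hce hc ((mul_mem_cancel_right he).1 (hze ▸ hz))) hg1
  have := pow_mem hz p
  rw [Commute.mul_pow (d.el_comm hg hh hc he hca hea hce), hp, one_mul] at this
  exact d.eq_one_of_two_cen hze this (pow_mem he p)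

theorem el_isPGroup [Finite G] (d : PlaneAct G I n) {g h : G} {a : L} {c : P} (hg : g ∈ axG G I a)
    (hc : g ∈ cenG G I c) (hca : I c a) (hg1 : g ≠ 1) (hh : h ∈ d.el a) (hhc : h ∉ cenG G I c) :
    ∃ p : ℕ, p.Prime ∧ IsPGroup p (d.el a) := by
  obtain ⟨hh, e, hea, he⟩ := hh
  have hce : c ≠ e := fun e1 => hhc (e1 ▸ he)
  have hh1 : h ≠ 1 := fun e1 => hhc (e1 ▸ one_mem _)
  obtain ⟨p, hp, hpd⟩ := Nat.exists_prime_and_dvd (n := orderOf g) (by simpa using hg1)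
  have h0 := (orderOf_pos g).ne'
  have h1 := orderOf_pow_orderOf_div h0 hpd
  have hg' : g ^ (orderOf g / p) ≠ 1 := fun e1 => hp.ne_one (by rw [← h1, e1, orderOf_one])
  have hgp : (g ^ (orderOf g / p)) ^ p = 1 := by
    conv_lhs => rw [← h1]
    rw [h1, ← pow_orderOf_eq_one (g ^ (orderOf g / p)), h1]
  have hhp := d.el_pow (pow_mem hg _) hh (pow_mem hc _) he hca hea hce hg' hgp
  refine ⟨p, hp, fun ⟨k, hk, z, hza, hz⟩ => ⟨1, Subtype.ext ?_⟩⟩
  rw [pow_one]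
  by_cases hcz : c = z
  · exact d.el_pow hh hk he hz hea hza (hcz ▸ hce.symm) hh1 hhp
  · exact d.el_pow (pow_mem hg _) hk (pow_mem hc _) hz hca hza hcz hg' hgp

/-- full flags -/
def Full (G : Type*) [Group G] [MulAction G P] [MulAction G L] (I : P → L → Prop) (n : ℕ) (x : P)
    (b : L) : Prop := I x b ∧ n ≤ Nat.card (cenG G I x ⊓ axG G I b : Subgroup G)

omit [Fintype P] [Fintype L] in
theorem Full.dual {x : P} {b : L} (h : Full G I n x b) : Full G (fun l p => I p l) n b x :=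
  ⟨h.1, by rw [inf_comm]; exact h.2⟩

variable [Finite G]

theorem Full.exists_ne_one (d : PlaneAct G I n) {x : P} {b : L} (h : Full G I n x b) :
    ∃ g : G, g ≠ 1 ∧ g ∈ cenG G I x ∧ g ∈ axG G I b := by
  have h1 := h.2
  have := d.two_le
  obtain ⟨g, hg, hg1⟩ := (Subgroup.bot_or_exists_ne_one _).resolve_left
    ((Subgroup.one_lt_card_iff_ne_bot (cenG G I x ⊓ axG G I b)).1 (by omega))
  exact ⟨g, hg1, hg⟩

theorem full_uniq (d : PlaneAct G I n) (hn : ¬ IsPrimePow n) {x y : P} {b : L}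
    (hx : Full G I n x b) (hy : Full G I n y b) : x = y := by
  by_contra hxy
  obtain ⟨g, g1, g2, g3⟩ := hx.exists_ne_one d
  obtain ⟨h, h1, h2, h3⟩ := hy.exists_ne_one d
  obtain ⟨p, hp, hP⟩ := d.el_isPGroup g3 g2 hx.1 g1 ⟨h3, y, hy.1, h2⟩
    fun e => h1 (d.eq_one_of_two_cen hxy e h2)
  have := Fact.mk hp
  obtain ⟨k, hk⟩ := IsPGroup.iff_card.1 (hP.to_le (H := cenG G I x ⊓ axG G I b)
    fun s hs => ⟨hs.2, x, hx.1, hs.1⟩)
  have h4 := d.two_le
  rw [le_antisymm (Nat.le_of_dvd (by omega) (d.card_dvd hx.1)) hx.2] at hk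
  refine hn ((isPrimePow_nat_iff _).2 ⟨p, k, hp, Nat.pos_of_ne_zero fun e => ?_, hk.symm⟩)
  rw [e, pow_zero] at hk
  omega

theorem full_smul (d : PlaneAct G I n) {x : P} {b : L} (s : G) (h : Full G I n x b) :
    Full G I n (s • x) (s • b) :=
  ⟨(d.inc s x b).2 h.1, h.2.trans (card_le_of_conj_mem s fun _ hg =>
    ⟨d.cen_conj s hg.1, d.ax_conj s hg.2⟩)⟩

theorem full_not_inc (d : PlaneAct G I n) (hn : ¬ IsPrimePow n) {x y : P} {a b : L}
    (hx : Full G I n x a) (hy : Full G I n y b) (h : I y a) : x = y := by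
  obtain ⟨g, g1, g2, g3⟩ := hx.exists_ne_one d
  have h1 := d.full_smul g hy
  rw [g3 y h] at h1
  have h2 : g • b = b := d.dual.full_uniq hn h1.dual hy.dual
  by_contra hxy
  have hab : b ≠ a := fun e => hxy (d.full_uniq hn hx (e ▸ hy))
  exact g1 (d.dual.eq_one_of_fix g3 g2 h2 (fun e => hab (d.uniq hxy e hy.1 hx.1 h)) hab)

theorem full_of_gorb (d : PlaneAct G I n) (hn : ¬ IsPrimePow n) {a b : L}
    (h : (gorb (d.el a) b).ncard = n) : ∃ x, Full G I n x a := by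
  have h2 := d.two_le
  obtain ⟨_, ⟨g, ⟨g1, x, g2, g3⟩, rfl⟩, hb⟩ :=
    Set.exists_ne_of_one_lt_ncard (s := gorb (d.el a) b) (by omega) b
  refine ⟨x, g2, ?_⟩
  have hle : d.el a ≤ cenG G I x ⊓ axG G I a := fun s hs => ⟨by
    by_contra hc
    obtain ⟨p, hp, hP⟩ := d.el_isPGroup g1 g3 g2 (fun e => hb (by rw [e, one_smul])) hs hc
    exact hn (h ▸ isPrimePow_of_gorb hp hP b (by omega)), hs.1⟩
  refine le_trans ?_ (Subgroup.card_le_of_le hle)
  rw [card_eq_gorb_mul (d.el a) b, h]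
  exact Nat.le_mul_of_pos_right _ Nat.card_pos

theorem three_mul_le {a n : ℕ} (hn : Odd n) (h : a ∣ n) (hne : a ≠ n) : 3 * a ≤ n := by
  obtain ⟨k, rfl⟩ := h
  obtain ⟨j, rfl⟩ := (Nat.odd_mul.1 hn).2
  rcases j with _ | j
  · simp at hne
  · nlinarith

theorem dichotomy (d : PlaneAct G I n) (ho : Odd n) (hn : ¬ IsPrimePow n)
    (H : ∀ x y b, I x b → ¬ I y b → ∃ σ : G, σ ≠ 1 ∧ σ * σ = 1 ∧ (∃ a, σ ∈ axG G I a) ∧
      σ • x = x ∧ σ • y = y ∧ σ • b = b)
    {x : P} (hx : ∀ b, ¬ Full G I n x b) {a b : L} (ha : I x a) (hb : I x b) (hab : b ≠ a) :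
    ∃ c, I c b ∧ Hom G I c a := by
  by_contra hc
  push Not at hc
  have h2 := d.two_le
  have hcover : {y | I y a ∧ y ≠ x} ⊆ {y | I y a ∧ Hom G I y b} ∪
      {y | (I y a ∧ y ≠ x) ∧ ∃ l, I y l ∧ Hom G I x l} := by
    rintro y ⟨h1, h3⟩
    have hyb : ¬ I y b := fun e => h3 (d.uniq' hab e h1 hb ha)
    obtain ⟨σ, s1, s2, ⟨l, hl⟩, s3, s4, s5⟩ := H x y b hb hyb
    obtain ⟨c, hcc⟩ := d.exists_cen hl
    have hh : Hom G I c l := ⟨σ, s1, s2, hcc, hl⟩
    have hpt : ∀ p : P, σ • p = p → p ≠ c → I p l := fun p hp hpc => by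
      by_contra h
      exact s1 (d.eq_one_of_fix hcc hl hp h hpc)
    by_cases hbl : b = l
    · subst hbl
      refine Or.inl ⟨h1, ?_⟩
      by_contra h
      exact hyb (hpt y s4 fun e => h (e ▸ hh))
    have hcb : I c b := by
      by_contra h
      exact s1 (d.dual.eq_one_of_fix hl hcc s5 h hbl)
    have hyl := hpt y s4 fun e => hyb (e ▸ hcb)
    by_cases hxc : x = c
    · exact Or.inr ⟨⟨h1, h3⟩, l, hyl, hxc ▸ hh⟩
    · exact absurd (d.uniq h3 hyl (hpt x s3 hxc) h1 ha ▸ hh) (hc c hcb)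
  have e1 : 3 * {y | I y a ∧ Hom G I y b}.ncard ≤ n := by
    rcases {y | I y a ∧ Hom G I y b}.eq_empty_or_nonempty with e | ⟨y0, h0, h0'⟩
    · simp [e]
    have h3 : {y | I y a ∧ Hom G I y b} ⊆ gorb (cenG G I x ⊓ axG G I b) y0 := by
      rintro y ⟨h4, h5⟩
      by_cases hy : y = y0
      · exact ⟨1, one_mem _, by rw [one_smul, hy]⟩
      obtain ⟨τ, ⟨t1, z, t2, t3⟩, rfl⟩ := d.andre ho h5 h0'
      obtain ⟨l, l1, l2⟩ := d.join y0 z
      have := d.uniq hy (d.inc_of_fix (t3 l l2) l1) l1 h4 h0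
      exact ⟨τ, ⟨d.uniq' hab t2 (this ▸ l2) hb ha ▸ t3, t1⟩, rfl⟩
    have h4 := Set.ncard_le_ncard h3
    have h5 := card_eq_gorb_mul (cenG G I x ⊓ axG G I b) y0
    have h6 := three_mul_le ho (d.card_dvd hb) fun e => hx b ⟨hb, e.ge⟩
    have h7 := Nat.le_mul_of_pos_right (gorb (cenG G I x ⊓ axG G I b) y0).ncard
      (Nat.card_pos (α := ↥(cenG G I x ⊓ axG G I b ⊓ stabilizer G y0)))
    omega
  have e2 : 3 * {y | (I y a ∧ y ≠ x) ∧ ∃ l, I y l ∧ Hom G I x l}.ncard ≤ n := by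
    rcases {y | (I y a ∧ y ≠ x) ∧ ∃ l, I y l ∧ Hom G I x l}.eq_empty_or_nonempty with
      e | ⟨y0, h0, l0, h1, h1'⟩
    · simp [e]
    have h3 : {y | (I y a ∧ y ≠ x) ∧ ∃ l, I y l ∧ Hom G I x l} ⊆ gorb (d.dual.el x) y0 := by
      rintro y ⟨h4, l, h5, h6⟩
      obtain ⟨τ, hτ, rfl⟩ := d.dual.andre ho h6.dual h1'.dual
      exact ⟨τ, hτ, d.uniq' (fun e : a = τ • l0 => d.not_inc_of_hom ho h6 (e ▸ ha))
        (d.inc_of_fix (hτ.1 a ha) h0.1) ((d.inc τ y0 l0).2 h1) h4.1 h5⟩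
    have h4 := Set.ncard_le_ncard h3
    have hst : ∀ y, I y a → y ≠ x → d.dual.el x ⊓ stabilizer G y = d.dual.el x ⊓ axG G I a := by
      intro y h5 h6
      ext τ
      refine and_congr_right fun ⟨t1, l, t2, t3⟩ => ⟨fun h7 => ?_, fun h7 => h7 y h5⟩
      by_cases hyl : I y l
      · exact d.uniq h6 hyl t2 h5 ha ▸ t3
      · rw [d.eq_one_of_fix t1 t3 h7 hyl h6]; exact one_mem _
    have h5 : (gorb (d.dual.el x) y0).ncard ∣ n := by
      refine (dvd_ncard_of_gorb (d.dual.el x) {p | I p a ∧ p ≠ x} (fun g hg p hp =>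
        ⟨d.inc_of_fix (hg.1 a ha) hp.1, fun e => hp.2
          (smul_left_cancel g (e.trans (d.cen_fix hg.1).symm))⟩) fun p hp => dvd_of_eq ?_).trans
        (d.ncard_punct ha).dvd
      have h6 := card_eq_gorb_mul (d.dual.el x) p
      rw [card_eq_gorb_mul (d.dual.el x) y0, hst p hp.1 hp.2, hst y0 h0.1 h0.2] at h6
      exact Nat.eq_of_mul_eq_mul_right Nat.card_pos h6
    have h6 := three_mul_le ho h5 fun e => by
      obtain ⟨l, hl⟩ := d.dual.full_of_gorb hn e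
      exact hx l hl.dual
    omega
  have e3 := (Set.ncard_le_ncard hcover).trans (Set.ncard_union_le _ _)
  rw [d.ncard_punct ha] at e3
  omega

/-- **Wagner's lemma**: a plane of odd order with many involutory homologies has prime power
order. -/
theorem isPrimePow_of_hom (d : PlaneAct G I n) (ho : Odd n) (x0 : P)
    (H : ∀ x y b, I x b → ¬ I y b → ∃ σ : G, σ ≠ 1 ∧ σ * σ = 1 ∧ (∃ a, σ ∈ axG G I a) ∧
      σ • x = x ∧ σ • y = y ∧ σ • b = b) : IsPrimePow n := by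
  by_contra hn
  have key : ∀ x, (∀ b, ¬ Full G I n x b) → ∀ a, I x a → ∃ y, Full G I n y a := by
    intro x hx a ha
    obtain ⟨b, hb, hba, -⟩ := d.dual.third x a a
    refine d.full_of_gorb hn (b := b) (Eq.trans ?_ (d.dual.ncard_punct (x := a) (l := x) ha))
    congr 1
    ext l
    constructor
    · rintro ⟨g, hg, rfl⟩
      exact ⟨d.dual.inc_of_fix (hg.1 x ha) hb, fun e => hba
        (smul_left_cancel g (e.trans (d.ax_fix hg.1).symm))⟩
    · rintro ⟨h1, h2⟩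
      obtain ⟨c, c1, c2⟩ := d.dichotomy ho hn H hx ha hb hba
      obtain ⟨e, e1, e2⟩ := d.dichotomy ho hn H hx ha h1 h2
      obtain ⟨τ, hτ, rfl⟩ := d.andre ho e2 c2
      exact ⟨τ, hτ, d.uniq (fun e : x = τ • c => d.not_inc_of_hom ho e2 (e ▸ ha))
        (d.dual.inc_of_fix (hτ.1 x ha) hb) ((d.inc τ c b).2 c1) h1 e1⟩
  obtain ⟨x, hx⟩ : ∃ x, ∀ b, ¬ Full G I n x b := by
    by_contra hc
    push Not at hc
    obtain ⟨a, ha⟩ := hc x0
    obtain ⟨y, h1, h2, -⟩ := d.third a x0 x0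
    obtain ⟨b, hb⟩ := hc y
    exact h2 (d.full_not_inc hn ha hb h1).symm
  obtain ⟨a1, ha1, -⟩ := d.join x x
  obtain ⟨a2, ha2, ha21, -⟩ := d.dual.third x a1 a1
  obtain ⟨x1, h1⟩ := key x hx a1 ha1
  obtain ⟨x2, h2⟩ := key x hx a2 ha2
  obtain ⟨u, u1, u2, u3⟩ := d.third a1 x x1
  obtain ⟨l, l1, l2⟩ := d.join x2 u
  obtain ⟨w, hw⟩ := key u (fun b hb => u3 (d.full_not_inc hn h1 hb u1).symm) l l2
  obtain rfl := d.full_not_inc hn hw h2 l1
  obtain rfl : l = a2 := d.dual.full_uniq hn hw.dual h2.dual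
  exact u2 (d.uniq' ha21 l2 u1 ha2 ha1)

end PlaneAct

end CfsgLib.Perm
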