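import Mathlib
import Cfsg.Agent.Lib.Perm.GeomPlane

/-! Finite projective planes: involutions, subplanes and Baer's theorem. -/

set_option autoImplicit false

namespace CfsgLib.Perm

open MulAction

section Grp
variable {G : Type*} [Group G]

theorem exists_sylow_le [Finite G] (U : Subgroup G) {p : ℕ} (hp : p.Prime) :
    ∃ Q ≤ U, IsPGroup p Q ∧ ∃ u, Nat.card U = Nat.card Q * u ∧ Nat.Coprime p u := by
  have := Fact.mk hp
  obtain ⟨S⟩ : Nonempty (Sylow p U) := inferInstance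
  refine ⟨(S : Subgroup U).map U.subtype, Subgroup.map_subtype_le _, S.2.map _, S.index, ?_,
    hp.coprime_iff_not_dvd.2 S.not_dvd_index⟩
  rw [Subgroup.card_map_of_injective U.subtype_injective, Subgroup.card_mul_index]

theorem exists_two_ext_up [Finite G] {H U : Subgroup G} {j : ℕ} (hle : H ≤ U)
    (hH : Nat.card H = 2 ^ j) (hU : 2 ^ (j + 1) ∣ Nat.card U) :
    ∃ K, H ≤ K ∧ K ≤ U ∧ Nat.card K = 2 ^ (j + 1) := by
  obtain ⟨K, h1, h2⟩ := Sylow.exists_subgroup_card_pow_succ hU (H := H.subgroupOf U)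
    (by rw [← hH]; exact Nat.card_congr (Subgroup.subgroupOfEquivOfLe hle).toEquiv)
  refine ⟨K.map U.subtype, ?_, Subgroup.map_subtype_le _, ?_⟩
  · rw [← Subgroup.map_subgroupOf_eq_of_le hle]; exact Subgroup.map_mono h2
  · rw [Subgroup.card_map_of_injective U.subtype_injective, h1]

theorem exists_two_ext_down [Finite G] {K : Subgroup G} {j : ℕ} (hK : Nat.card K = 2 ^ (j + 1)) :
    ∃ H ≤ K, Nat.card H = 2 ^ j := by
  obtain ⟨H, h⟩ := Sylow.exists_subgroup_card_pow_prime (G := K) 2 (n := j)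
    (hK ▸ pow_dvd_pow 2 j.le_succ)
  exact ⟨H.map K.subtype, Subgroup.map_subtype_le _, by
    rw [Subgroup.card_map_of_injective K.subtype_injective, h]⟩

theorem exists_central_prime [Finite G] {Q : Subgroup G} {p : ℕ} (hp : p.Prime) (hQ : IsPGroup p Q)
    (h : Q ≠ ⊥) : ∃ q ∈ Q, orderOf q = p ∧ ∀ g ∈ Q, g * q = q * g := by
  have := Fact.mk hp
  have := (Subgroup.nontrivial_iff_ne_bot Q).2 h
  have := hQ.center_nontrivial
  obtain ⟨n, hn, hc⟩ := (hQ.to_subgroup (Subgroup.center Q)).nontrivial_iff_card.1 inferInstance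
  obtain ⟨q, hq⟩ := exists_prime_orderOf_dvd_card' (G := Subgroup.center Q) p
    (hc ▸ dvd_pow_self p hn.ne')
  exact ⟨q, q.1.2, by rw [Subgroup.orderOf_coe, Subgroup.orderOf_coe, hq], fun g hg =>
    congrArg Subtype.val (Subgroup.mem_center_iff.1 q.2 ⟨g, hg⟩)⟩

theorem dvd_ncard_gorb {X : Type*} [MulAction G X] [Finite G] {Q V : Subgroup G} {x : X}
    (hV : Q ⊓ stabilizer G x ≤ V) {A B C u : ℕ} (h : A * (Nat.card Q * u) = B * C * Nat.card V)
    (hc : Nat.Coprime B (A * u)) : B ∣ (gorb Q x).ncard := by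
  obtain ⟨w, hw⟩ := Subgroup.card_dvd_of_le hV
  rw [card_eq_gorb_mul Q x, hw] at h
  refine hc.dvd_of_dvd_mul_left ⟨C * w, Nat.eq_of_mul_eq_mul_left
    (Nat.card_pos (α := ↥(Q ⊓ stabilizer G x))) ?_⟩
  linear_combination h

/-- extension of index two -/
structure Ext2 (H K : Subgroup G) (t : G) : Prop where
  le : H ≤ K
  mem : t ∈ K
  conj : ∀ g ∈ H, t * g * t⁻¹ ∈ H
  conj' : ∀ g ∈ H, t⁻¹ * g * t ∈ H
  sq : t * t ∈ H
  cases : ∀ g ∈ K, g ∈ H ∨ g * t ∈ H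

theorem exists_ext2 [Finite G] {H K : Subgroup G} {j : ℕ} (hle : H ≤ K) (hH : Nat.card H = 2 ^ j)
    (hK : Nat.card K = 2 ^ (j + 1)) : ∃ t, Ext2 H K t := by
  have h1 := (H.subgroupOf K).card_mul_index
  rw [Nat.card_congr (Subgroup.subgroupOfEquivOfLe hle).toEquiv, hH, hK, pow_succ] at h1
  obtain ⟨a, ha, h⟩ := (Subgroup.relIndex_eq_two_iff (H := H) (K := K)).1
    (Nat.eq_of_mul_eq_mul_left (by positivity) h1)
  have h2 : a ∉ H := fun e => by simpa [e] using h 1 (one_mem _)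
  have h3 : a * a ∈ H := (h a ha).or.resolve_right h2
  have h4 : ∀ g ∈ H, a * g * a ∈ H := fun g hg => (h _ (mul_mem ha (hle hg))).or.resolve_right
    fun e => h2 ((mul_mem_cancel_right hg).1 e)
  exact ⟨a, hle, ha, fun g hg => by simpa [mul_assoc] using mul_mem (h4 g hg) (inv_mem h3),
    fun g hg => by simpa [mul_assoc] using mul_mem (inv_mem h3) (h4 g hg), h3,
    fun g hg => (h g hg).or.symm⟩

variable {X : Type*} [MulAction G X]

/-- fixed by a subgroup -/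
def Fx (H : Subgroup G) (x : X) : Prop := ∀ g ∈ H, g • x = x

theorem Ext2.fx_iff {H K : Subgroup G} {t : G} (h : Ext2 H K t) {x : X} :
    Fx K x ↔ Fx H x ∧ t • x = x := by
  refine ⟨fun e => ⟨fun g hg => e g (h.le hg), e t h.mem⟩, fun ⟨h1, h2⟩ g hg => ?_⟩
  rcases h.cases g hg with e | e
  · exact h1 g e
  · simpa [mul_smul, h2] using h1 _ e

theorem Ext2.fx_smul {H K : Subgroup G} {t : G} (h : Ext2 H K t) {x : X} :
    Fx H (t • x) ↔ Fx H x := by
  refine ⟨fun e g hg => ?_, fun e g hg => ?_⟩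
  · simpa [mul_smul] using e _ (h.conj g hg)
  · simpa [mul_smul, inv_smul_eq_iff] using e _ (h.conj' g hg)

theorem fx_zpowers {z : G} {x : X} : Fx (Subgroup.zpowers z) x ↔ z • x = x :=
  ⟨fun h => h z (Subgroup.mem_zpowers z), fun h _ hg =>
    (Subgroup.zpowers_le.2 (show z ∈ stabilizer G x from h)) hg⟩

/-- the fixed points of a subgroup -/
def FxT (H : Subgroup G) (X : Type*) [MulAction G X] := {x : X // Fx H x}

noncomputable instance instFintypeFxT (H : Subgroup G) [Finite X] : Fintype (FxT H X) :=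
  have : Finite (FxT H X) := inferInstanceAs (Finite {x : X // Fx H x})
  Fintype.ofFinite _

theorem ncard_fxT (H : Subgroup G) (R : X → Prop) :
    {x : FxT H X | R x.1}.ncard = {x | Fx H x ∧ R x}.ncard := by
  rw [← Set.ncard_image_of_injective {x : FxT H X | R x.1} (f := fun x : FxT H X => x.1)
    Subtype.val_injective]
  congr 1
  ext x
  exact ⟨fun ⟨y, h, e⟩ => e ▸ ⟨y.2, h⟩, fun h => ⟨⟨x, h.1⟩, h.2, rfl⟩⟩

theorem card_fxT (H : Subgroup G) [Finite X] : Fintype.card (FxT H X) = {x : X | Fx H x}.ncard := by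
  rw [← Nat.card_eq_fintype_card]; rfl

end Grp

variable {P L : Type*} [Fintype P] [Fintype L] {I : P → L → Prop} {n : ℕ}

theorem symDesign_of_plane (join : ∀ p q, p ≠ q → ∃ l, I p l ∧ I q l)
    (meet : ∀ l m, l ≠ m → ∃ p, I p l ∧ I p m)
    (uniq : ∀ {p q l m}, p ≠ q → I p l → I q l → I p m → I q m → l = m)
    (nd : ∀ a c, ∃ p, ¬ I p a ∧ p ≠ c) (a0 : L) (c0 : P) : ∃ m, SymDesign I (m + 1) 1 := by
  have S1 : ∀ q l, ¬ I q l → {p | I p l}.ncard = {m | I q m}.ncard := fun q l h => by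
    refine le_antisymm (rel_ncard_le (fun p m => I p m ∧ I q m) (fun p hp => ?_)
      (fun p hp p' hp' m h1 h2 => ?_) (Set.toFinite _))
      (rel_ncard_le (fun m p => I p m ∧ I p l) (fun m hm => ?_)
      (fun m hm m' hm' p h1 h2 => ?_) (Set.toFinite _))
    · obtain ⟨m, h1, h2⟩ := join p q fun e => h (e ▸ hp)
      exact ⟨m, h2, h1, h2⟩
    · by_contra hne
      exact h (uniq hne hp hp' h1.1 h2.1 ▸ h1.2)
    · obtain ⟨p, h1, h2⟩ := meet m l fun e => h (e ▸ hm)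
      exact ⟨p, h2, h1, h2⟩
    · exact uniq (fun e : p = q => h (e ▸ h1.2)) h1.1 hm h2.1 hm'
  have S2 : ∀ l l', ∃ q, ¬ I q l ∧ ¬ I q l' := fun l l' => by
    by_contra hc
    push Not at hc
    obtain ⟨p1, h1, -⟩ := nd l c0
    obtain ⟨p2, h2, h12⟩ := nd l p1
    obtain ⟨q1, k1, -⟩ := nd l' c0
    obtain ⟨q2, k2, k12⟩ := nd l' q1
    have hc' : ∀ q, ¬ I q l' → I q l := fun q h => by_contra fun h' => h (hc q h')
    obtain ⟨m1, a1, b1⟩ := join p1 q1 fun e => h1 (e ▸ hc' q1 k1)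
    obtain ⟨m2, a2, b2⟩ := join p2 q2 fun e => h2 (e ▸ hc' q2 k2)
    obtain ⟨r, r1, r2⟩ := meet m1 m2 fun e =>
      k1 (uniq h12 (e ▸ a2) a1 (hc p2 h2) (hc p1 h1) ▸ b1)
    by_cases hr : I r l
    · have e1 : r = q1 := by_contra fun e => h1 (uniq e r1 b1 hr (hc' q1 k1) ▸ a1)
      have e2 : r = q2 := by_contra fun e => h2 (uniq e r2 b2 hr (hc' q2 k2) ▸ a2)
      exact k12 (e2.symm.trans e1)
    · have e1 : r = p1 := by_contra fun e => k1 (uniq e r1 a1 (hc r hr) (hc p1 h1) ▸ b1)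
      have e2 : r = p2 := by_contra fun e => k2 (uniq e r2 a2 (hc r hr) (hc p2 h2) ▸ b2)
      exact h12 (e2.symm.trans e1)
  have size : ∀ l, {p | I p l}.ncard = {p | I p a0}.ncard := fun l => by
    obtain ⟨q, h1, h2⟩ := S2 l a0
    rw [S1 q l h1, S1 q a0 h2]
  have rep : ∀ q, {l | I q l}.ncard = {p | I p a0}.ncard := fun q => by
    obtain ⟨p1, -, h1⟩ := nd a0 q
    obtain ⟨a, h2, h3⟩ := join p1 q h1
    obtain ⟨p2, h4, -⟩ := nd a q
    obtain ⟨l, h5, h6⟩ := join p1 p2 fun e => h4 (e ▸ h2)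
    rw [← S1 q l fun e => h4 (uniq h1 h5 e h2 h3 ▸ h6), size]
  have pair : ∀ p q, p ≠ q → {l | I p l ∧ I q l}.ncard = 1 := fun p q h => by
    obtain ⟨l, h1, h2⟩ := join p q h
    exact Set.ncard_eq_one.2 ⟨l, Set.eq_singleton_iff_unique_mem.2
      ⟨⟨h1, h2⟩, fun m hm => uniq h hm.1 hm.2 h1 h2⟩⟩
  have inter : ∀ l m, l ≠ m → {p | I p l ∧ I p m}.ncard = 1 := fun l m h => by
    obtain ⟨p, h1, h2⟩ := meet l m h
    exact Set.ncard_eq_one.2 ⟨p, Set.eq_singleton_iff_unique_mem.2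
      ⟨⟨h1, h2⟩, fun q hq => by_contra fun e => h (uniq e hq.1 h1 hq.2 h2)⟩⟩
  have h3 : 2 < {p | I p a0}.ncard := by
    obtain ⟨p1, -, h1⟩ := nd a0 c0
    obtain ⟨a, h2, h3⟩ := join p1 c0 h1
    obtain ⟨p2, h4, h5⟩ := nd a c0
    obtain ⟨a', h6, h7⟩ := join p2 c0 h5
    obtain ⟨r, h8, h9⟩ := S2 a a'
    obtain ⟨a'', h10, h11⟩ := join r c0 fun e => h8 (e ▸ h3)
    rw [← rep c0]
    exact (Set.two_lt_ncard_iff (Set.toFinite _)).2 ⟨a, a', a'', h3, h7, h11,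
      fun e => h4 (e ▸ h6), fun e => h8 (e ▸ h10), fun e => h9 (e ▸ h10)⟩
  obtain ⟨m, hm⟩ : ∃ m, {p | I p a0}.ncard = m + 1 := ⟨_, (Nat.succ_pred_eq_of_pos (by omega)).symm⟩
  rw [hm] at size rep h3
  refine ⟨m, ?_, rep, pair, size, inter, by omega⟩
  have h1 := design_count rep pair size c0
  have h2 := design_count (I := fun l p => I p l) size inter rep a0
  zify
  linear_combination h1 - h2

/-- the collineation group -/
def coll (I : P → L → Prop) : Subgroup (Equiv.Perm P × Equiv.Perm L) where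
  carrier := {s | ∀ p l, I (s.1 p) (s.2 l) ↔ I p l}
  one_mem' := fun _ _ => Iff.rfl
  mul_mem' := fun ha hb p l => (ha _ _).trans (hb p l)
  inv_mem' := fun {s} hs p l => by simpa using (hs (s.1⁻¹ p) (s.2⁻¹ l)).symm

instance instMulActionCollP (I : P → L → Prop) : MulAction (coll I) P :=
  MulAction.compHom P ((MonoidHom.fst _ _).comp (coll I).subtype)

instance instMulActionCollL (I : P → L → Prop) : MulAction (coll I) L :=
  MulAction.compHom L ((MonoidHom.snd _ _).comp (coll I).subtype)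

theorem SymDesign.planeAct (d : SymDesign I (n + 1) 1) :
    @PlaneAct P L _ _ (coll I) _ (instMulActionCollP I) (instMulActionCollL I) I n :=
  @PlaneAct.mk P L _ _ (coll I) _ (instMulActionCollP I) (instMulActionCollL I) I n d
    (fun g => g.2) fun g hg => Subtype.ext (Prod.ext (Equiv.ext hg) (Equiv.ext fun l =>
      (d.blk_ext fun p hp => by
        have := (g.2 p l).2 hp
        rwa [show g.1.1 p = p from hg p] at this).symm))

variable {G : Type*} [Group G] [MulAction G P] [MulAction G L]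

/-- non-degeneracy of the fixed structure -/
def ND (I : P → L → Prop) (H : Subgroup G) : Prop := ∀ a c, ∃ p, Fx H p ∧ ¬ I p a ∧ p ≠ c

/-- the fixed structure has order `m` -/
structure FxOrd (I : P → L → Prop) (H : Subgroup G) (m : ℕ) : Prop where
  pts : {p : P | Fx H p}.ncard = m ^ 2 + m + 1
  lns : {l : L | Fx H l}.ncard = m ^ 2 + m + 1
  line : ∀ l, Fx H l → {p | Fx H p ∧ I p l}.ncard = m + 1

namespace PlaneAct

theorem inv_fix (d : PlaneAct G I n) {σ : G} (hσ : σ * σ = 1) {y : P} (l : L)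
    (h : ∀ u, I u l → σ • u = u → u = y) : σ • y = y ∨ σ • l = l := by
  by_contra hc
  push Not at hc
  obtain ⟨u, h1, h2⟩ := d.meet l (σ • l)
  have h3 : σ • u = u := d.uniq' hc.2 ((d.inc σ u l).2 h1)
    (by rw [← d.inc σ, smul_smul, hσ, one_smul]; exact h2) h2 h1
  exact hc.1 (h u h1 h3 ▸ h3)

theorem exists_fix (d : PlaneAct G I n) {σ : G} (hσ : σ * σ = 1) (c e : P) :
    ∃ y, σ • y = y ∧ y ≠ c ∧ y ≠ e := by
  by_contra hc
  push Not at hc
  obtain ⟨a, h1, h2⟩ := d.join c e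
  obtain ⟨y, h3, h4, h5⟩ := d.third a c e
  have key : ∀ l, I y l → l ≠ a → σ • l = l := fun l h6 h7 =>
    (d.inv_fix hσ l fun u h8 h9 => d.uniq' h7 h8 (by
      by_cases e1 : u = c
      · exact e1 ▸ h1
      · exact hc u h9 e1 ▸ h2) h6 h3).resolve_left fun e1 => h5 (hc y e1 h4)
  obtain ⟨l, l1, l2, -⟩ := d.dual.third y a a
  obtain ⟨m, m1, m2, m3⟩ := d.dual.third y a l
  exact h5 (hc y (d.fix_point m3 (key m m1 m2) (key l l1 l2) m1 l1) h4)

theorem exists_ax_of_inv (d : PlaneAct G I n) {σ : G} (hσ : σ * σ = 1) (R C : P → Prop)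
    (hR : ∀ p q r l, p ≠ q → R p → R q → R r → I p l → I q l → I r l)
    (hC : ∀ p q, C p → C q → p = q) (h : ∀ p, σ • p = p → R p ∨ C p) (x0 : P) :
    ∃ a, σ ∈ axG G I a := by
  obtain ⟨c, hc⟩ : ∃ c, ∀ p, C p → p = c := by
    by_cases e : ∃ c, C c
    · exact e.imp fun c hc p hp => hC p c hp hc
    · exact ⟨x0, fun p hp => absurd ⟨p, hp⟩ e⟩
  have h' : ∀ p, σ • p = p → p ≠ c → R p := fun p hp hpc =>
    (h p hp).resolve_right fun e => hpc (hc p e)
  obtain ⟨p, p1, p2, -⟩ := d.exists_fix hσ c c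
  obtain ⟨q, q1, q2, q3⟩ := d.exists_fix hσ c p
  obtain ⟨a, a1, a2⟩ := d.join q p
  refine ⟨a, fun y hy => ?_⟩
  obtain ⟨m, m1, m2⟩ := d.join y c
  obtain ⟨l, l1, l2, l3⟩ := d.dual.third y a m
  refine (d.inv_fix hσ l fun u u1 u2 => ?_).elim id fun e =>
    d.fix_point l2 e (d.fix_line q3 q1 p1 a1 a2) l1 hy
  by_cases huc : u = c
  · by_contra hne
    exact l3 (d.uniq hne u1 l1 (huc ▸ m2) m1)
  · exact d.uniq' l2 u1 (hR q p u a q3 (h' q q1 q2) (h' p p1 p2) (h' u u2 huc) a1 a2) l1 hy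

theorem subplane (d : PlaneAct G I n) {H : Subgroup G} (h : ND I H) (x0 : P) :
    ∃ m, SymDesign (fun (p : FxT H P) (l : FxT H L) => I p.1 l.1) (m + 1) 1 := by
  have join : ∀ p q : FxT H P, p ≠ q → ∃ l : FxT H L, I p.1 l.1 ∧ I q.1 l.1 := fun p q hpq => by
    obtain ⟨l, h1, h2⟩ := d.join p.1 q.1
    exact ⟨⟨l, fun g hg => d.fix_line (fun e => hpq (Subtype.ext e)) (p.2 g hg) (q.2 g hg) h1 h2⟩,
      h1, h2⟩
  obtain ⟨a, -⟩ := d.join x0 x0
  obtain ⟨p, hp, -⟩ := h a x0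
  obtain ⟨q, hq, -, hqp⟩ := h a p
  obtain ⟨a0, -⟩ := join ⟨q, hq⟩ ⟨p, hp⟩ fun e => hqp (congrArg Subtype.val e)
  refine symDesign_of_plane join (fun l m hlm => ?_)
    (fun hpq h1 h2 h3 h4 => Subtype.ext (d.uniq (fun e => hpq (Subtype.ext e)) h1 h2 h3 h4))
    (fun a c => ?_) a0 ⟨p, hp⟩
  · obtain ⟨p, h1, h2⟩ := d.meet l.1 m.1
    exact ⟨⟨p, fun g hg => d.fix_point (fun e => hlm (Subtype.ext e)) (l.2 g hg) (m.2 g hg) h1 h2⟩,
      h1, h2⟩
  · obtain ⟨p, h1, h2, h3⟩ := h a.1 c.1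
    exact ⟨⟨p, h1⟩, h2, fun e => h3 (congrArg Subtype.val e)⟩

theorem _root_.CfsgLib.Perm.SymDesign.fxOrd {H : Subgroup G} {m : ℕ}
    (d : SymDesign (fun (p : FxT H P) (l : FxT H L) => I p.1 l.1) (m + 1) 1) (p : FxT H P) :
    FxOrd I H m :=
  ⟨by rw [← card_fxT, d.card_points p], by rw [← card_fxT, ← d.card_eq, d.card_points p],
    fun l hl => by rw [← ncard_fxT H fun p => I p l]; exact d.size ⟨l, hl⟩⟩

theorem exists_fxOrd (d : PlaneAct G I n) {H : Subgroup G} (h : ND I H) (x0 : P) :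
    ∃ m, FxOrd I H m := by
  obtain ⟨m, hm⟩ := d.subplane h x0
  obtain ⟨a, -⟩ := d.join x0 x0
  obtain ⟨p, hp, -⟩ := h a x0
  exact ⟨m, hm.fxOrd ⟨p, hp⟩⟩

theorem fxOrd_bot (d : PlaneAct G I n) (x0 : P) : FxOrd I (⊥ : Subgroup G) n := by
  refine ⟨?_, ?_, fun l _ => ?_⟩
  · simp [Fx, Set.ncard_univ, d.card_points x0]
  · simp [Fx, Set.ncard_univ, ← d.card_eq, d.card_points x0]
  · simp [Fx, d.size]

theorem nd_bot (d : PlaneAct G I n) : ND I (⊥ : Subgroup G) := fun a c => by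
  obtain ⟨y, hy, -⟩ := d.meet a a
  obtain ⟨l, -, hl, -⟩ := d.dual.third y a a
  obtain ⟨p, q, hpq, -, hp, -, hq⟩ := d.exists_two hl
  by_cases h : p = c
  · exact ⟨q, by simp [Fx], hq, h ▸ hpq.symm⟩
  · exact ⟨p, by simp [Fx], hp, h⟩

/-- Baer's theorem -/
theorem baer (d : PlaneAct G I n) {H K : Subgroup G} {t : G} (e : Ext2 H K t) {m k : ℕ}
    (hH : FxOrd I H m) (hK : FxOrd I K k) : m = k ∨ m = k ^ 2 := by
  classical
  have h1 : ∑ p : P, ∑ l : L, (if (Fx H p ∧ ¬ Fx K p) ∧ Fx K l ∧ I p l then (1 : ℤ) else 0) =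
      ∑ l : L, ∑ p : P, (if (Fx H p ∧ ¬ Fx K p) ∧ Fx K l ∧ I p l then (1 : ℤ) else 0) :=
    Finset.sum_comm
  have hdiff : ∀ R : P → Prop, ({p | (Fx H p ∧ ¬ Fx K p) ∧ R p}.ncard : ℤ) =
      {p | Fx H p ∧ R p}.ncard - {p | Fx K p ∧ R p}.ncard := fun R => by
    have := Set.ncard_sdiff_add_ncard_of_subset (s := {p | Fx K p ∧ R p})
      (t := {p | Fx H p ∧ R p}) fun p hp => ⟨(e.fx_iff.1 hp.1).1, hp.2⟩
    rw [← this]
    push_cast
    rw [add_sub_cancel_right]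
    congr 2
    ext p
    simp only [Set.mem_ofPred_eq, Set.mem_sdiff]
    tauto
  have hl : ∀ l : L, ∑ p : P, (if (Fx H p ∧ ¬ Fx K p) ∧ Fx K l ∧ I p l then (1 : ℤ) else 0) =
      (if Fx K l then 1 else 0) * (m - k : ℤ) := fun l => by
    rw [← ncard_setOf_eq_sum]
    by_cases hl : Fx K l
    · simp only [hl, true_and, if_true, one_mul, hdiff, hH.line l (e.fx_iff.1 hl).1, hK.line l hl]
      push_cast
      ring
    · simp [hl]
  have hp : ∀ p : P, ∑ l : L, (if (Fx H p ∧ ¬ Fx K p) ∧ Fx K l ∧ I p l then (1 : ℤ) else 0) =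
      if (Fx H p ∧ ¬ Fx K p) ∧ True then 1 else 0 := fun p => by
    rw [← ncard_setOf_eq_sum]
    by_cases hp : Fx H p ∧ ¬ Fx K p
    · have h3 : t • p ≠ p := fun h => hp.2 (e.fx_iff.2 ⟨hp.1, h⟩)
      obtain ⟨l, l1, l2⟩ := d.join (t • p) p
      have hl : Fx K l := e.fx_iff.2 ⟨fun g hg => d.fix_line h3 (e.fx_smul.2 hp.1 g hg)
        (hp.1 g hg) l1 l2, d.uniq h3 ((d.inc t p l).2 l2) (by
          rw [← hp.1 _ e.sq, mul_smul, d.inc]; exact l1) l1 l2⟩
      simp only [hp, not_false_eq_true, and_self, true_and, if_true]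
      exact_mod_cast (Set.ncard_eq_one (s := {l | Fx K l ∧ I p l})).2 ⟨l,
        Set.eq_singleton_iff_unique_mem.2 ⟨⟨hl, l2⟩,
        fun l' hl' => by_contra fun hne => hp.2 fun g hg =>
          d.fix_point hne (hl'.1 g hg) (hl g hg) hl'.2 l2⟩⟩
    · simp [hp]
  rw [Finset.sum_congr rfl fun p _ => hp p, Finset.sum_congr rfl fun l _ => hl l, ← Finset.sum_mul,
    ← ncard_setOf_eq_sum, ← ncard_setOf_eq_sum, hdiff] at h1
  simp only [and_true, hH.pts, hK.pts, hK.lns] at h1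
  push_cast at h1
  have h2 : ((m : ℤ) - k) * (m - k ^ 2) = 0 := by linear_combination h1
  rcases mul_eq_zero.1 h2 with h | h
  · left; omega
  · right; zify; omega

theorem baer_chain [Finite G] (d : PlaneAct G I n) (x0 : P) (j : ℕ) {K : Subgroup G}
    (hK : Nat.card K = 2 ^ j) (h : ND I K) {k : ℕ} (hk : FxOrd I K k) : ∃ i, n = k ^ 2 ^ i := by
  induction j generalizing K k with
  | zero =>
    obtain rfl := Subgroup.card_eq_one.1 hK
    have h1 := hk.pts.symm.trans (d.fxOrd_bot x0).pts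
    refine ⟨0, ?_⟩
    have h2 : ((n : ℤ) - k) * (n + k + 1) = 0 := by zify at h1; linear_combination -h1
    rcases mul_eq_zero.1 h2 with h | h
    · simp only [pow_zero, pow_one]; omega
    · omega
  | succ j ih =>
    obtain ⟨H, hle, hH⟩ := exists_two_ext_down hK
    obtain ⟨t, e⟩ := exists_ext2 hle hH hK
    have h' : ND I H := fun a c => (h a c).imp fun p hp => ⟨(e.fx_iff.1 hp.1).1, hp.2⟩
    obtain ⟨m, hm⟩ := d.exists_fxOrd h' x0
    obtain ⟨i, hi⟩ := ih hH h' hm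
    rcases d.baer e hm hk with rfl | rfl
    · exact ⟨i, hi⟩
    · exact ⟨i + 1, by rw [hi, ← pow_mul, pow_succ']⟩

end PlaneAct

end CfsgLib.Perm
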