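/-
Binary actions of `PSL(2, q)`: the point stabilizers.
-/
import Cfsg.Agent.Lib.Perm.BinA
import Cfsg.Agent.Lib.SL2.PSL
import Cfsg.Agent.Lib.SL2.Normalizer
import Cfsg.Agent.Lib.GW.CH1
import Cfsg.Agent.Lib.TwoGrp.FusModel
import Cfsg.Agent.Lib.Dickson.MinSimple
import Cfsg.Agent.S0205

set_option autoImplicit false
set_option linter.unusedSectionVars false

namespace CfsgLib.Perm.Binary

open Cfsg Cfsg.Agent.S5737 MulAction Pointwise CfsgLib.StrEmb CfsgLib.SL2 Matrix MatrixGroups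

variable {F : Type*} [Field F]

theorem tr_of_ord {g : SL(2, F)} (h : orderOf (pm g) = 2) : tr g = 0 ∧ g * g = -1 :=
  sq_eq_neg_one_of_isScal_sq (mt pm_eq_one_iff.2 (ne_one_of_orderOf h))
    (pm_eq_one_iff.1 (by rw [map_mul, mul_self_of_orderOf h]))

theorem pm_sq_of_tr {g : SL(2, F)} (h : tr g = 0) : pm g * pm g = 1 := by
  rw [mul_eq_one_iff_eq_inv, ← map_inv, inv_eq_neg_of_tr h, pm_neg]

theorem pm_isConj {g h : SL(2, F)} (e : IsConj g h) : IsConj (pm g) (pm h) := pm.map_isConj e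

theorem exists_conj_uu {g : SL(2, F)} (hg : pm g ≠ 1) (h : tr g ^ 2 = 4) :
    ∃ (c : SL(2, F)) (b : F), b ≠ 0 ∧ (g = c * uu b * c⁻¹ ∨ g = -(c * uu b * c⁻¹)) := by
  obtain ⟨z, b, hz, hb, e⟩ := exists_conj_unip (mt pm_eq_one_iff.2 hg) h
  obtain ⟨c, rfl⟩ := isConj_iff.1 e
  refine ⟨c, b, hb, ?_⟩
  rcases (isScal_iff z).1 hz with rfl | rfl <;> simp

theorem pm_uu_ne_one {b : F} (hb : b ≠ 0) : pm (uu b) ≠ 1 := fun e => hb (pm_eq_one_iff.1 e).1

theorem fricke {s : F} {y : SL(2, F)} (h : SL2.comp s * y = y * SL2.comp s) :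
    s ^ 2 + tr y ^ 2 + tr (y * SL2.comp s) ^ 2 - s * tr y * tr (y * SL2.comp s) - 4 = 0 := by
  obtain ⟨e1, e2, -, -⟩ := ext2_iff.1 h
  have hd := det_eq y
  simp only [mul_ap, SL2.comp, tr, mk2_00, mk2_01, mk2_10, mk2_11] at e1 e2 ⊢
  have h1 : y 0 1 = -y 1 0 := by linear_combination -e1
  have h2 : y 1 1 = y 0 0 + s * y 1 0 := by linear_combination -e2 - s * h1
  rw [h1, h2] at hd ⊢
  linear_combination (4 - s ^ 2) * hd

variable [Fintype F]

theorem exists_triple {s : F} (hs : s ^ 2 ≠ 4) (r t : F) :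
    ∃ y : SL(2, F), tr y = r ∧ tr (y * SL2.comp s) = t := by
  have h0 : 4 - s ^ 2 ≠ 0 := sub_ne_zero.2 hs.symm
  obtain ⟨c, hc⟩ : ∃ c, c * (4 - s ^ 2) = s * r - 2 * t := ⟨_, div_mul_cancel₀ _ h0⟩
  obtain ⟨d, hd⟩ : ∃ d, d * (4 - s ^ 2) = 2 * r - s * t := ⟨_, div_mul_cancel₀ _ h0⟩
  have e1 : 2 * c - s * d + t = 0 := mul_right_cancel₀ h0 (by linear_combination 2 * hc - s * hd)
  have e2 : 2 * d - s * c - r = 0 := mul_right_cancel₀ h0 (by linear_combination 2 * hd - s * hc)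
  obtain ⟨u, v, h⟩ := exists_binary_form_eq 1 (-s) 1 (fun e => hs (by linear_combination e))
    (-(c ^ 2 - s * c * d + d ^ 2 + t * c - r * d + 1))
  refine ⟨mk2 (r - (d + v)) (t + (c + u) - (d + v) * s) (c + u) (d + v)
    (by linear_combination -h - u * e1 - v * e2), ?_, ?_⟩ <;>
    simp only [mul_ap, SL2.comp, tr, mk2_00, mk2_01, mk2_10, mk2_11] <;> ring

theorem one_psl : One PSL(2, F) := by
  intro s t hs ht
  obtain ⟨s, rfl⟩ := pm_surjective s
  obtain ⟨t, rfl⟩ := pm_surjective t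
  have h1 := (tr_of_ord hs).1
  have h2 := (tr_of_ord ht).1
  by_cases h : (2 : F) = 0
  · have key : ∀ s : SL(2, F), orderOf (pm s) = 2 → ∃ b ≠ 0, IsConj (pm (uu b)) (pm s) := fun s hs => by
      obtain ⟨c, b, hb, e⟩ := exists_conj_uu (ne_one_of_orderOf hs)
        (by rw [(tr_of_ord hs).1]; linear_combination -2 * h)
      refine ⟨b, hb, ?_⟩
      rw [pm_eq_iff.2 e]
      exact pm_isConj (isConj_iff.2 ⟨c, rfl⟩)
    obtain ⟨a, ha, e1⟩ := key s hs
    obtain ⟨b, hb, e2⟩ := key t ht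
    refine e1.symm.trans ((pm_isConj ((isConj_uu_iff ha).2 ⟨hb, ?_⟩)).trans e2)
    exact FiniteField.isSquare_of_char_two
      (CharP.ringChar_of_prime_eq_zero Nat.prime_two (by exact_mod_cast h)) _
  · exact pm_isConj (isConj_of_tr_eq (tr_sq_ne_of_tr_zero h h1) (h1.trans h2.symm))

variable {X : Type*} [MulAction PSL(2, F) X] [Finite X]

theorem odd_of_odd (hq : Odd (Fintype.card F)) (h7 : 7 ≤ Fintype.card F) (hb : Bin PSL(2, F) X)
    (hX : ∀ p : X, stabilizer PSL(2, F) p ≠ ⊤) (p : X) :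
    Odd (Nat.card (stabilizer PSL(2, F) p)) := by
  have := Dickson.psl_isSimpleGroup (F := F) (by rw [Nat.card_eq_fintype_card]; omega)
  refine odd_card_of_forall fun t0 hp ht0 => ?_
  obtain ⟨k, hk⟩ : 8 ∣ Fintype.card F ^ 2 - 1 := by
    obtain ⟨k, hk⟩ := hq
    obtain ⟨l, hl⟩ := Nat.even_mul_succ_self k
    exact ⟨l, by rw [hk]; apply Nat.sub_eq_of_eq_add; nlinarith⟩
  obtain ⟨j, m, hm, rfl⟩ := Nat.exists_eq_two_pow_mul_odd (n := k) (by
    rintro rfl
    have : 7 ^ 2 ≤ Fintype.card F ^ 2 := Nat.pow_le_pow_left h7 2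
    omega)
  obtain ⟨S, r, s, hD⟩ := TwoGrp.psl2_isDih (j := j + 1) (m := m) hq (by rw [hk]; ring)
    hm.not_two_dvd_nat
  obtain ⟨h3, h4⟩ := hD.half (m := 2 ^ j) (by ring) (by positivity)
  have hc : GW.Ctx S _ r s _ := ⟨hD, by
    have : 0 < 2 ^ j := by positivity
    rw [pow_succ]; omega, Subgroup.zpow_mem_zpowers _ _, orderOf_eq_two h3 h4, one_psl⟩
  obtain ⟨p', hp'⟩ := exists_fix_of_isConj (one_psl _ _ ht0 hc.t_ord) hp
  have h5 := stab_fix_ne_top h4 hp' (hX p')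
  have h6 := (GW.se_index hc (M := stabilizer _ (fixedBy X (r ^ ((2 ^ j : ℕ) : ℤ))))
    (fun g hg => smul_fixedBy_of_conj (Or.inl (mem_centralizer_iff_conj.1 hg)))
    fun a ha b hb' ha2 hb2 => by
      obtain ⟨g, rfl⟩ := isConj_iff.1 (one_psl _ _ ha2 hb2)
      exact ⟨g, mem_of_conj hb one_psl hc.t_ord ha2 ha hb', rfl⟩).resolve_left
        (by rwa [Subgroup.index_eq_one])
  have h8 := Nat.le_of_dvd (Nat.factorial_pos _) (SmallSimple.two_mul_card_dvd_factorial hc.not_comm _ h5)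
  have h9 := Classical.psl2_card_mul (F := F)
  have h10 : 7 ^ 2 ≤ Fintype.card F ^ 2 := Nat.pow_le_pow_left h7 2
  have h11 := Nat.mul_le_mul h7 (show 48 ≤ Fintype.card F ^ 2 - 1 by omega)
  have h12 := Nat.mul_le_mul_right (Nat.card PSL(2, F))
    (Nat.gcd_le_left (Fintype.card F - 1) two_pos)
  rw [h6] at h8
  change _ ≤ 120 at h8
  omega

section two

variable (h2 : (2 : F) = 0) (hb : Bin PSL(2, F) X) (hX : ∀ p : X, stabilizer PSL(2, F) p ≠ ⊤)
include h2

theorem ord_uu {b : F} (hb : b ≠ 0) : orderOf (pm (uu b)) = 2 :=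
  orderOf_eq_two (pm_sq_of_tr (by simp [tr, ← h2, one_add_one_eq_two])) (pm_uu_ne_one hb)

include hb hX

theorem upper_of_fix {b : F} (hb0 : b ≠ 0) {p : X} (hp : pm (uu b) • p = p) {g : SL(2, F)}
    (hg : pm g • p = p) : g 1 0 = 0 := by
  by_contra hc
  let K := (stabilizer PSL(2, F) p).comap pm
  have hu : ∀ a, uu a ∈ K := fun a => by
    by_cases ha : a = 0
    · rw [ha, uu_zero]; exact K.one_mem
    · have := fix_eq_of_comm hb one_psl (ord_uu h2 hb0) (ord_uu h2 ha) (show _ = _ by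
        rw [← map_mul, ← map_mul, ← uu_add, ← uu_add, add_comm])
      exact show p ∈ fixedBy X _ from this ▸ hp
  have hw := K.mul_mem (K.mul_mem (hu (-g 0 0 / g 1 0)) hg) (hu (-g 1 1 / g 1 0))
  have hd := det_eq g
  have := Dickson.sl_eq_top_of_uu_ll K hu fun c => by
    convert K.mul_mem (K.mul_mem hw (hu (-c / g 1 0 ^ 2))) (K.inv_mem hw) using 1
    rw [eq_mul_inv_iff_mul_eq]
    apply ext2 <;> simp only [mul_ap, uu_00, uu_01, uu_10, uu_11, ll_00, ll_01, ll_10, ll_11] <;>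
      field_simp
    · ring
    · ring
    · ring
    · linear_combination (-(g 1 0 * c)) * hd
  refine hX p (eq_top_iff.2 fun x _ => ?_)
  obtain ⟨x, rfl⟩ := pm_surjective x
  exact show x ∈ K from this ▸ Subgroup.mem_top x

theorem comm_of_fix {s t : PSL(2, F)} (hs : orderOf s = 2) (ht : orderOf t = 2) {p : X}
    (h1 : s • p = p) (h3 : t • p = p) : s * t = t * s := by
  obtain ⟨c, rfl⟩ := isConj_iff.1 (one_psl _ _ (ord_uu h2 one_ne_zero) ht)
  obtain ⟨s, hs'⟩ := pm_surjective (c⁻¹ * s * c)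
  have e1 := upper_of_fix h2 hb hX one_ne_zero (p := c⁻¹ • p) (g := s)
    (by rwa [mul_smul, mul_smul, smul_eq_iff_eq_inv_smul] at h3) (by simp [hs', mul_smul, h1])
  have e2 := (tr_of_ord (g := s) (by
    rw [hs']; exact (by simpa using orderOf_conj c⁻¹ _ : _ = _).trans hs)).1
  have e3 : s * uu 1 = uu 1 * s := by
    rw [tr] at e2
    apply ext2 <;> simp only [mul_ap, uu_00, uu_01, uu_10, uu_11, e1]
    · ring
    · linear_combination e2 - s 1 1 * h2
    · ring
    · ring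
  have e4 := congrArg (fun x => c * pm x * c⁻¹) e3
  simp only [map_mul, hs'] at e4
  simpa [mul_assoc] using e4

theorem stab_eq_of_two {t : PSL(2, F)} (ht : orderOf t = 2) {p : X} (hp : t • p = p) {g : PSL(2, F)}
    (hg : g • p = p) : g * t = t * g := by
  obtain ⟨g, rfl⟩ := pm_surjective g
  by_cases h0 : tr g = 0
  · by_cases h1 : pm g = 1
    · simp [h1]
    · exact comm_of_fix h2 hb hX (orderOf_eq_two (pm_sq_of_tr h0) h1) ht hg hp
  have h4 : tr g ^ 2 ≠ 4 := fun e => h0 (pow_eq_zero_iff two_ne_zero |>.1 (by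
    rw [e]; linear_combination 2 * h2))
  obtain ⟨n, hn⟩ := exists_inverts h4
  have key : ∀ n : SL(2, F), n * g * n⁻¹ = g⁻¹ → orderOf (pm n) = 2 := fun n hn =>
    orderOf_eq_two (pm_sq_of_tr (sq_eq_neg_one_of_inverts h4 hn).1) fun e =>
      ne_inv_of_tr h4 (by rw [← hn, mul_assoc, ← inv_inv n, ← mul_assoc, inv_inv,
        pm_injective_of_two h2 (e.trans (map_one pm).symm)]; simp)
  have hx := key n hn
  have hy := key (g * n) (by
    rw [show g * n * g * (g * n)⁻¹ = g * (n * g * n⁻¹) * g⁻¹ by group, hn]; simp)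
  have e : pm (g * n) * pm n = pm g := by rw [map_mul, mul_assoc, mul_self_of_orderOf hx, mul_one]
  obtain ⟨r, h5, h6⟩ : ∃ r : X, pm n • r = r ∧ pm (g * n) • r = r := by
    by_cases h : fixedBy X (pm n) = fixedBy X (pm (g * n))
    · obtain ⟨r, hr⟩ := exists_fix_of_isConj (one_psl _ _ ht hx) hp
      exact ⟨r, hr, show r ∈ fixedBy X _ from h ▸ hr⟩
    · have := fix_of_ne hb one_psl hx hy h (e ▸ hg)
      exact ⟨p, this, by rw [map_mul, mul_smul, this, hg]⟩
  have h7 := comm_of_fix h2 hb hX hx hy h5 h6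
  rw [← map_mul, ← map_mul, ← mul_assoc] at h7
  rw [mul_right_cancel (pm_injective_of_two h2 h7), mul_inv_cancel_right] at hn
  exact absurd hn (ne_inv_of_tr h4)

end two

theorem tr_ne_of_odd {g : SL(2, F)} (h : Odd (orderOf (pm g))) (h1 : pm g ≠ 1) : tr g ≠ 0 :=
  fun e => h1 (eq_one_of_odd_of_mul_self h (pm_sq_of_tr e))

theorem exists_core {R : Subgroup PSL(2, F)} (ho : Odd (Nat.card R)) (h : R ≠ ⊥) :
    ∃ a : SL(2, F), pm a ∈ R ∧ pm a ≠ 1 ∧ ∀ g, pm g ∈ Subgroup.normalizer (R : Set PSL(2, F)) →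
      g * a * g⁻¹ * a = a * (g * a * g⁻¹) := by
  have := Cfsg.Agent.S0205.result ho
  obtain ⟨a, ha, h1, h2⟩ := exists_comm_conj R h
  obtain ⟨a, rfl⟩ := pm_surjective a
  refine ⟨a, ha, h1, fun g hg => Subgroup.mem_centralizer_singleton_iff.1 ?_⟩
  rw [← comap_centralizer_pm_of_ne (Or.inr (tr_ne_of_odd (odd_orderOf_of_mem ho ha) h1)),
    Subgroup.mem_comap, Subgroup.mem_centralizer_singleton_iff]
  simpa using h2 _ hg

theorem comm_of_odd {a g : SL(2, F)} (ha : tr a ^ 2 ≠ 4) (hg : Odd (orderOf (pm g)))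
    (h : g * a * g⁻¹ * a = a * (g * a * g⁻¹)) : g * a = a * g := by
  by_cases h1 : pm g = 1
  · exact (Subgroup.mem_center_iff.1 ((mem_center_iff_isScal g).2 (pm_eq_one_iff.1 h1)) a).symm
  rcases eq_or_eq_inv_of_commute ha h (tr_conj a g) with e | e
  · exact mul_inv_eq_iff_eq_mul.1 e
  · exact absurd (sq_eq_neg_one_of_inverts ha e).1 (tr_ne_of_odd hg h1)

theorem upper_of_comm {g : SL(2, F)} {b : F} (hb : b ≠ 0)
    (h : g * uu b * g⁻¹ * uu b = uu b * (g * uu b * g⁻¹)) : g 1 0 = 0 := by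
  have e := (ext2_iff.1 h).1
  simp only [mul_ap, uu_00, uu_01, uu_10, uu_11, inv_00, inv_01, inv_10, inv_11] at e
  have : (b * g 1 0) ^ 2 = 0 := by linear_combination e
  simpa [hb] using this

theorem comm_of_Rz {z : SL(2, F)} (hz : tr z ^ 2 ≠ 4) {p : X} (hp : pm z • p = p)
    (ho : Odd (Nat.card (stabilizer PSL(2, F) p))) {h : SL(2, F)} (hh : pm h ∈ Rz X (pm z)) :
    h * z = z * h := by
  have h1 : Odd (Nat.card (Rz X (pm z))) :=
    ho.of_dvd_nat (Subgroup.card_dvd_of_le fun g hg => mem_Rz.1 hg p hp)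
  have hz1 := not_isScal_of_tr hz
  obtain ⟨a, -, ha1, h2⟩ := exists_core h1 fun e =>
    hz1 (pm_eq_one_iff.1 (Subgroup.mem_bot.1 (e ▸ self_mem_Rz (pm z))))
  have h3 := h2 z (Subgroup.le_normalizer (self_mem_Rz _))
  by_cases ha : tr a ^ 2 = 4
  · exfalso
    obtain ⟨n, hn⟩ := exists_inverts hz
    have h4 := h2 n (mem_norm_Rz (smul_fixedBy_of_conj (Or.inr (by
      rw [← map_inv, ← map_mul, ← map_mul, hn, map_inv]))))
    obtain ⟨c, b, hb, e⟩ := exists_conj_uu ha1 ha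
    have key : ∀ g : SL(2, F), g * a * g⁻¹ * a = a * (g * a * g⁻¹) → (c⁻¹ * g * c) 1 0 = 0 :=
      fun g hg => upper_of_comm hb (by
        have := congrArg (fun x => c⁻¹ * x * c) hg
        rcases e with rfl | rfl <;> simpa [mul_assoc] using this)
    have e1 := key z h3
    have e2 := key n h4
    have e3 : c⁻¹ * n * c * (c⁻¹ * z * c) = (c⁻¹ * z * c)⁻¹ * (c⁻¹ * n * c) := by
      rw [mul_inv_eq_iff_eq_mul] at hn
      simpa [mul_assoc] using congrArg (fun x => c⁻¹ * x * c) hn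
    rw [← tr_conj' z c] at hz
    have d1 := det_eq (c⁻¹ * z * c)
    have d2 := det_eq (c⁻¹ * n * c)
    generalize c⁻¹ * z * c = z at *
    generalize c⁻¹ * n * c = n at *
    have e4 := (ext2_iff.1 e3).1
    simp only [mul_ap, inv_00, inv_01, e1, e2] at e4 d1 d2
    have e5 : z 1 1 = z 0 0 := by linear_combination (z 0 0 - z 1 1) * d2 - n 1 1 * e4
    rw [tr, e5] at hz
    rw [e5] at d1
    exact hz (by linear_combination 4 * d1)
  · exact commute_of_commute (mt pm_eq_one_iff.2 ha1)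
      (comm_of_odd ha (odd_orderOf_of_mem h1 hh) (h2 h (Subgroup.le_normalizer hh)))
      (comm_of_odd ha (odd_orderOf_of_mem h1 (self_mem_Rz _)) h3)

theorem triple (hb : Bin PSL(2, F) X) {x y : SL(2, F)}
    (hx : ∀ h, pm h ∈ Rz X (pm x) → h * x = x * h) (hy : ∀ h, pm h ∈ Rz X (pm y) → h * y = y * h)
    (hz : ∀ h, pm h ∈ Rz X (pm (y * x)) → h * (y * x) = y * x * h) : x * y = y * x := by
  obtain ⟨h, h1, h2, h3⟩ := hb.test (pm x) (pm y)
  obtain ⟨h, rfl⟩ := pm_surjective h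
  by_cases hh : IsScal h
  · have := hz x (mem_Rz.2 fun p hp => by
      rw [← h3 p (by rwa [← map_mul]), pm_eq_one_iff.2 hh, one_smul])
    rwa [← mul_assoc, mul_left_inj] at this
  · exact commute_of_commute hh (hx h (mem_Rz.2 h1)).symm (hy h (mem_Rz.2 h2)).symm

section odd

variable (hb : Bin PSL(2, F) X) (ho : ∀ p : X, Odd (Nat.card (stabilizer PSL(2, F) p)))
include hb ho

theorem triple_tr {z x y : SL(2, F)} (hz : tr z ^ 2 ≠ 4) {p : X} (hp : pm z • p = p)
    (hx : tr x = tr z) (hy : tr y = tr z) (hxy : tr (y * x) = tr z ∨ tr (y * x) = -tr z) :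
    x * y = y * x := by
  have key : ∀ w : SL(2, F), tr w = tr z ∨ tr w = -tr z → ∀ h, pm h ∈ Rz X (pm w) → h * w = w * h := by
    intro w hw h hh
    have h1 : IsConj (pm z) (pm w) := by
      rcases hw with hw | hw
      · exact pm_isConj (isConj_of_tr_eq hz hw.symm)
      · rw [← pm_neg w]
        exact pm_isConj (isConj_of_tr_eq hz (by rw [tr_neg, hw, neg_neg]))
    obtain ⟨r, hr⟩ := exists_fix_of_isConj h1 hp
    exact comm_of_Rz (by rcases hw with hw | hw <;> simpa [hw] using hz) hr (ho r) hh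
  exact triple hb (key x (Or.inl hx)) (key y (Or.inl hy)) (key _ hxy)

theorem tr_eq_one {z : SL(2, F)} (hz : tr z ^ 2 ≠ 4) {p : X} (hp : pm z • p = p) :
    (2 : F) = 0 ∧ tr z = 1 := by
  obtain ⟨y, h1, h2⟩ := exists_triple hz (tr z) (tr z)
  obtain ⟨y', h3, h4⟩ := exists_triple hz (tr z) (-tr z)
  have e1 := fricke (triple_tr hb ho hz hp (tr_comp _) h1 (Or.inl h2))
  have e2 := fricke (triple_tr hb ho hz hp (tr_comp _) h3 (Or.inr h4))
  rw [h1, h2] at e1
  rw [h3, h4] at e2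
  have n1 : tr z - 2 ≠ 0 := fun e => hz (by linear_combination (tr z + 2) * e)
  have n2 : tr z + 2 ≠ 0 := fun e => hz (by linear_combination (tr z - 2) * e)
  have f1 : tr z + 1 = 0 := mul_right_cancel₀ (pow_ne_zero 2 n1) (by linear_combination -e1)
  have f2 : tr z - 1 = 0 := mul_right_cancel₀ (pow_ne_zero 2 n2) (by linear_combination e2)
  exact ⟨by linear_combination f1 - f2, by linear_combination f2⟩

theorem eq_one_of_odd (h2 : (2 : F) ≠ 0) {z : PSL(2, F)} {p : X} (hp : z • p = p) : z = 1 := by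
  have h4 : ∀ (z : SL(2, F)) (p : X), pm z • p = p → tr z ^ 2 = 4 := fun z p hp =>
    by_contra fun h => h2 (tr_eq_one hb ho h hp).1
  by_contra hz
  obtain ⟨z, rfl⟩ := pm_surjective z
  obtain ⟨c, a, ha, e⟩ := exists_conj_uu hz (h4 z p hp)
  have key : ∀ (c : SL(2, F)) (b : F), b = a ∨ b = -a → ∀ h, pm h ∈ Rz X (pm (c * uu b * c⁻¹)) →
      h * (c * uu b * c⁻¹) = c * uu b * c⁻¹ * h := by
    intro c' b hb h hh
    have hp' : pm (uu b) • (pm c)⁻¹ • p = (pm c)⁻¹ • p := by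
      rw [pm_eq_iff.2 e, map_mul, map_mul, map_inv, mul_smul, mul_smul, smul_eq_iff_eq_inv_smul] at hp
      rcases hb with rfl | rfl
      · exact hp
      · rw [uu_neg, map_inv, inv_smul_eq_iff, hp]
    have hb0 : b ≠ 0 := by rcases hb with rfl | rfl <;> simpa using ha
    generalize (pm c)⁻¹ • p = p at hp'
    have h1 : pm (c'⁻¹ * h * c') • p = p := by
      rw [map_mul, map_mul, mul_smul, mul_smul, mem_Rz.1 hh, map_inv, inv_smul_smul]
      rw [map_mul, map_mul, map_inv, mul_smul, mul_smul, inv_smul_smul, hp']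
    suffices c'⁻¹ * h * c' * uu b = uu b * (c'⁻¹ * h * c') by
      simpa [mul_assoc] using congrArg (fun x => c' * x * c'⁻¹) this
    generalize c'⁻¹ * h * c' = k at h1
    have t0 := h4 k p h1
    have t1 := h4 (uu b * k) p (by rw [map_mul, mul_smul, h1, hp'])
    have t2 := h4 ((uu b)⁻¹ * k) p (by rw [map_mul, mul_smul, h1, map_inv, inv_smul_eq_iff, hp'])
    have d := det_eq k
    simp only [tr, mul_ap, uu_00, uu_01, uu_10, uu_11, inv_00, inv_01, inv_10, inv_11] at t0 t1 t2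
    have e1 : k 1 0 = 0 := by
      have : 2 * (b * k 1 0) ^ 2 = 0 := by linear_combination t1 + t2 - 2 * t0
      simpa [h2, hb0] using this
    have e2 : k 0 0 - k 1 1 = 0 := by
      rw [e1] at d
      exact pow_eq_zero_iff two_ne_zero |>.1 (by linear_combination t0 - 4 * d)
    apply ext2 <;> simp only [mul_ap, uu_00, uu_01, uu_10, uu_11, e1]
    · ring
    · linear_combination b * e2
    · ring
    · ring
  have := triple hb (x := uu a) (y := ll (-4 / a)) (by simpa using key 1 a (Or.inl rfl))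
    (by
      have e : ll (-4 / a) = mk2 0 (-a / 2) (2 / a) 0 (by field_simp; ring) * uu a *
          (mk2 0 (-a / 2) (2 / a) 0 (by field_simp; ring))⁻¹ := by
        rw [eq_mul_inv_iff_mul_eq]
        apply ext2 <;> simp [mul_ap]
        field_simp
        ring
      rw [e]
      exact key _ a (Or.inl rfl))
    (by
      have e : ll (-4 / a) * uu a = -(ll (-2 / a) * uu (-a) * (ll (-2 / a))⁻¹) := by
        rw [← neg_eq_iff_eq_neg, eq_mul_inv_iff_mul_eq]
        apply ext2 <;> simp [mul_ap, neg_ap] <;> field_simp <;> ring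
      rw [e, pm_neg]
      simpa using key (ll (-2 / a)) (-a) (Or.inr rfl))
  have e := (ext2_iff.1 this).1
  simp only [mul_ap, uu_00, uu_01, uu_10, ll_00, ll_01, ll_10] at e
  field_simp at e
  exact h2 (pow_eq_zero_iff two_ne_zero |>.1 (by linear_combination -e))

theorem tr_eq_one_of_two (h2 : (2 : F) = 0) {z : SL(2, F)} (hz : pm z ≠ 1) {p : X}
    (hp : pm z • p = p) : tr z ^ 2 ≠ 4 ∧ tr z = 1 := by
  have h : tr z ^ 2 ≠ 4 := fun e => tr_ne_of_odd (odd_orderOf_of_mem (ho p) hp) hz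
    (pow_eq_zero_iff two_ne_zero |>.1 (by rw [e]; linear_combination 2 * h2))
  exact ⟨h, (tr_eq_one hb ho h hp).2⟩

theorem no_root (h2 : (2 : F) = 0) {z : PSL(2, F)} (hz : z ≠ 1) {p : X} (hp : z • p = p) (ω : F) :
    ω ^ 2 + ω + 1 ≠ 0 := fun hω => by
  obtain ⟨z, rfl⟩ := pm_surjective z
  obtain ⟨h4, h1⟩ := tr_eq_one_of_two hb ho h2 hz hp
  have hd : ω * ω ^ 2 - 0 * 0 = 1 := by linear_combination (ω - 1) * hω
  have := triple_tr hb ho h4 hp (x := mk2 ω 0 0 (ω ^ 2) hd) (y := mk2 ω 1 0 (ω ^ 2) (by simpa using hd))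
    (by rw [h1]; simp only [tr, mk2_00, mk2_11]; linear_combination hω - h2)
    (by rw [h1]; simp only [tr, mk2_00, mk2_11]; linear_combination hω - h2)
    (Or.inl (by
      rw [h1]
      simp only [tr, mul_ap, mk2_00, mk2_01, mk2_10, mk2_11]
      linear_combination (ω ^ 2 - ω + 1) * hω - h2))
  have e := (ext2_iff.1 this).2.1
  simp only [mul_ap, mk2_00, mk2_01, mk2_11] at e
  exact one_ne_zero (by linear_combination hω + e - ω * h2 : (1 : F) = 0)

theorem card_eq_three (h2 : (2 : F) = 0) {p : X} (h : stabilizer PSL(2, F) p ≠ ⊥) :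
    Nat.card (stabilizer PSL(2, F) p) = 3 := by
  obtain ⟨a, ha, h1, h3⟩ := exists_core (ho p) h
  obtain ⟨h4, h5⟩ := tr_eq_one_of_two hb ho h2 h1 ha
  have h6 : (stabilizer PSL(2, F) p : Set PSL(2, F)) = {1, pm a, pm a⁻¹} := by
    ext g
    obtain ⟨g, rfl⟩ := pm_surjective g
    constructor
    · intro hg
      by_cases hg1 : pm g = 1
      · exact Or.inl hg1
      · rcases eq_or_eq_inv_of_commute h4 (comm_of_odd h4 (odd_orderOf_of_mem (ho p) hg)
          (h3 g (Subgroup.le_normalizer hg))) ((tr_eq_one_of_two hb ho h2 hg1 hg).2.trans h5.symm)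
          with e | e <;> simp [e]
    · rintro (e | e | e) <;> rw [e]
      · exact Subgroup.one_mem _
      · exact ha
      · exact Subgroup.inv_mem _ ha
  change Nat.card (stabilizer PSL(2, F) p : Set PSL(2, F)) = 3
  rw [h6, Nat.card_coe_set_eq, Set.ncard_eq_three]
  exact ⟨_, _, _, h1.symm, by rw [map_inv]; exact (inv_ne_one.2 h1).symm,
    fun e => ne_inv_of_tr h4 (pm_injective_of_two h2 e), rfl⟩

end odd

section conv

variable (h2 : (2 : F) = 0)
include h2

theorem cent_eq {x y : PSL(2, F)} (hx : x ≠ 1) (hy : y ≠ 1) (h : y * x = x * y) :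
    Subgroup.centralizer ({y} : Set PSL(2, F)) = Subgroup.centralizer {x} := by
  obtain ⟨x, rfl⟩ := pm_surjective x
  obtain ⟨y, rfl⟩ := pm_surjective y
  refine Subgroup.comap_injective pm_surjective ?_
  rw [comap_centralizer_pm_of_ne (Or.inl h2), comap_centralizer_pm_of_ne (Or.inl h2)]
  exact centralizer_eq_of_commute (mt pm_eq_one_iff.2 hx) (mt pm_eq_one_iff.2 hy)
    (pm_injective_of_two h2 (by simpa using h))

theorem sq_of_comm {t g : PSL(2, F)} (ht : orderOf t = 2) (h : g * t = t * g) : g * g = 1 := by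
  obtain ⟨c, rfl⟩ := isConj_iff.1 (one_psl _ _ (ord_uu h2 one_ne_zero) ht)
  obtain ⟨s, hs⟩ := pm_surjective (c⁻¹ * g * c)
  have e1 : s ∈ Subgroup.centralizer {1 * uu (1 : F)} := by
    rw [one_mul, Subgroup.mem_centralizer_singleton_iff]
    refine pm_injective_of_two h2 ?_
    rw [map_mul, map_mul, hs]
    generalize pm (uu (1 : F)) = u at h
    simpa [mul_assoc] using congrArg (fun x => c⁻¹ * x * c) h
  have e2 := pm_sq_of_tr (g := s) (by
    rw [tr, ((mem_centralizer_unip_iff isScal_one one_ne_zero s).1 e1).2]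
    linear_combination s 1 1 * h2)
  rw [hs] at e2
  simpa [mul_assoc] using congrArg (fun x => c * x * c⁻¹) e2

theorem exists_sylow_eq {t : PSL(2, F)} (ht : orderOf t = 2) :
    ∃ P : Sylow 2 PSL(2, F), Subgroup.centralizer {t} = (P : Subgroup PSL(2, F)) := by
  have h1 : IsPGroup 2 (Subgroup.centralizer ({t} : Set PSL(2, F))) := fun g =>
    ⟨1, Subtype.ext (by
      simpa [pow_two] using sq_of_comm h2 ht (Subgroup.mem_centralizer_singleton_iff.1 g.2))⟩
  refine ⟨h1.toSylow ?_, rfl⟩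
  obtain ⟨c, rfl⟩ := isConj_iff.1 (one_psl _ _ (ord_uu h2 one_ne_zero) ht)
  obtain ⟨c, rfl⟩ := pm_surjective c
  rw [← map_inv, ← map_mul, ← map_mul, index_pm_of_ne (Or.inl h2)]
  intro h
  have h3 := h.mul_left (Nat.card (Subgroup.center SL(2, F)))
  rw [index_centralizer_unip isScal_one one_ne_zero (isConj_iff.2 ⟨c, by rw [one_mul]⟩)] at h3
  have h4 : Even (Fintype.card F) := by
    rw [← Nat.not_odd_iff_even]
    exact fun h => two_ne_zero_of_odd h h2
  have h5 := (h4.pow_of_ne_zero two_ne_zero).two_dvd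
  have h6 : 0 < Fintype.card F ^ 2 := pow_pos Fintype.card_pos 2
  omega

theorem sylow_eq (P : Sylow 2 PSL(2, F)) :
    ∃ t, orderOf t = 2 ∧ (P : Subgroup PSL(2, F)) = Subgroup.centralizer {t} := by
  have : Fact (Nat.Prime 2) := ⟨Nat.prime_two⟩
  obtain ⟨Q, hQ⟩ := exists_sylow_eq h2 (ord_uu h2 one_ne_zero)
  obtain ⟨g, rfl⟩ := exists_smul_eq PSL(2, F) Q P
  refine ⟨_, (orderOf_conj g _).trans (ord_uu h2 one_ne_zero), ?_⟩
  rw [Sylow.coe_subgroup_smul, ← hQ]
  generalize pm (uu (1 : F)) = u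
  ext x
  rw [Subgroup.mem_pointwise_smul_iff_inv_smul_mem, Subgroup.mem_centralizer_singleton_iff,
    Subgroup.mem_centralizer_singleton_iff, MulAut.smul_def, MulAut.conj_inv_apply]
  exact ⟨fun h => by simpa [mul_assoc] using congrArg (fun x => g * x * g⁻¹) h,
    fun h => by simpa [mul_assoc] using congrArg (fun x => g⁻¹ * x * g) h⟩

theorem bin_of_sylow (h : ∀ p : X, ∃ P : Sylow 2 PSL(2, F), stabilizer PSL(2, F) p = P) :
    Bin PSL(2, F) X := by
  have key : ∀ (p : X) (x : PSL(2, F)), x • p = p → x * x = 1 ∧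
      (x ≠ 1 → stabilizer PSL(2, F) p = Subgroup.centralizer {x}) := fun p x hx => by
    obtain ⟨P, hP⟩ := h p
    obtain ⟨t, ht, e⟩ := sylow_eq h2 P
    have h1 : x * t = t * x := Subgroup.mem_centralizer_singleton_iff.1 (e ▸ hP ▸ hx)
    exact ⟨sq_of_comm h2 ht h1, fun h0 => by rw [hP, e, cent_eq h2 (ne_one_of_orderOf ht) h0 h1]⟩
  refine bin_of_TI fun p r s x y hx hy hx1 hy1 hxy => ?_
  rw [(key p x hx).2 hx1, (key r y hy).2 hy1]
  refine cent_eq h2 hy1 hx1 ?_
  rw [← inv_eq_of_mul_eq_one_right (key s _ hxy).1, _root_.mul_inv_rev,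
    inv_eq_of_mul_eq_one_right (key p x hx).1, inv_eq_of_mul_eq_one_right (key r y hy).1]

theorem tr_of_cube {g : SL(2, F)} (h1 : g ≠ 1) (h : g ^ 3 = 1) : tr g = 1 := by
  have e : g * g = g⁻¹ := by rw [eq_inv_iff_mul_eq_one, ← h, pow_three']
  obtain ⟨e1, e2, e3, e4⟩ := ext2_iff.1 e
  have d := det_eq g
  simp only [mul_self_ap, inv_00, inv_01, inv_10, inv_11, one_00, one_01, one_10, one_11] at e1 e2 e3 e4
  by_contra ht
  have h0 : tr g + 1 ≠ 0 := fun e => ht (by linear_combination e - h2)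
  have f1 : g 0 1 = 0 := mul_left_cancel₀ h0 (by linear_combination e2)
  have f2 : g 1 0 = 0 := mul_left_cancel₀ h0 (by linear_combination e3)
  have f3 : g 0 0 = g 1 1 := mul_left_cancel₀ h0 (by linear_combination e1 - e4)
  rcases (isScal_iff g).1 ⟨f1, f2, f3⟩ with e | e
  · exact h1 e
  · exact h1 (e.trans (neg_eq_self_of_two h2 1))

theorem eq_of_tr (hω : ∀ ω : F, ω ^ 2 + ω + 1 ≠ 0) {x y : SL(2, F)} (hx : tr x = 1) (hy : tr y = 1)
    (h : tr (y * x) = 1) : y = x := by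
  obtain ⟨c, hc⟩ := exists_conj_comp (g := x) (by
    rw [hx]; exact fun e => one_ne_zero (by linear_combination e + 2 * h2 : (1 : F) = 0))
  suffices c⁻¹ * y * c = c⁻¹ * x * c by simpa using this
  rw [← tr_conj' y c] at hy
  rw [← tr_conj' _ c, show c⁻¹ * (y * x) * c = c⁻¹ * y * c * (c⁻¹ * x * c) by group, hc, hx] at h
  rw [hc, hx]
  generalize c⁻¹ * y * c = y at hy h
  have d := det_eq y
  simp only [tr, mul_ap, SL2.comp, mk2_00, mk2_01, mk2_10, mk2_11] at hy h
  have e0 : y 0 0 = 1 - y 1 1 := by linear_combination hy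
  have e1 : y 0 1 = 1 + y 1 0 - y 1 1 := by linear_combination h
  rw [e0, e1] at d
  have e2 : (y 1 0 - 1) ^ 2 + (y 1 0 - 1) * (y 1 1 - 1) + (y 1 1 - 1) ^ 2 = 0 := by
    linear_combination -d + (y 1 0 * y 1 1 - 2 * y 1 0 - y 1 1 + 1) * h2
  have e3 : y 1 1 - 1 = 0 := by
    by_contra h0
    exact hω ((y 1 0 - 1) / (y 1 1 - 1)) (by field_simp; linear_combination e2)
  have e4 : y 1 0 - 1 = 0 := by
    rw [e3] at e2
    exact pow_eq_zero_iff two_ne_zero |>.1 (by linear_combination e2)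
  apply ext2 <;> simp only [SL2.comp, mk2_00, mk2_01, mk2_10, mk2_11]
  · linear_combination e0 - e3
  · linear_combination e1 + e4 - e3 + h2
  · linear_combination e4
  · linear_combination e3

theorem bin_of_three (hω : ∀ ω : F, ω ^ 2 + ω + 1 ≠ 0)
    (h : ∀ p : X, Nat.card (stabilizer PSL(2, F) p) = 3) : Bin PSL(2, F) X := by
  have : Fact (Nat.Prime 3) := ⟨Nat.prime_three⟩
  have key : ∀ (p : X) (x : SL(2, F)), pm x • p = p → pm x ≠ 1 → tr x = 1 ∧
      stabilizer PSL(2, F) p = Subgroup.zpowers (pm x) := fun p x hx h1 => by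
    have h3 : orderOf (pm x) = 3 := by
      refine ((Nat.dvd_prime Nat.prime_three).1 (h p ▸ Subgroup.orderOf_dvd_natCard _ hx)).resolve_left ?_
      rwa [orderOf_eq_one_iff]
    refine ⟨tr_of_cube h2 (fun e => h1 (by rw [e, map_one])) (pm_injective_of_two h2 (by
      rw [map_pow, ← h3, pow_orderOf_eq_one, map_one])), (Subgroup.eq_of_le_of_card_ge
        (Subgroup.zpowers_le.2 hx) (by rw [h p, Nat.card_zpowers, h3])).symm⟩
  refine bin_of_TI fun p r s x y hx hy hx1 hy1 hxy => ?_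
  obtain ⟨x, rfl⟩ := pm_surjective x
  obtain ⟨y, rfl⟩ := pm_surjective y
  rw [(key p x hx hx1).2, (key r y hy hy1).2]
  by_cases h0 : pm x * pm y = 1
  · rw [eq_inv_of_mul_eq_one_left h0, Subgroup.zpowers_inv]
  · rw [← map_mul] at hxy h0
    rw [eq_of_tr h2 hω (key r y hy hy1).1 (key p x hx hx1).1 (key s _ hxy h0).1]

theorem odd_iff_no_root {a : ℕ} (ha : Fintype.card F = 2 ^ a) :
    Odd a ↔ ∀ ω : F, ω ^ 2 + ω + 1 ≠ 0 := by
  classical
  have : Fact (Nat.Prime 3) := ⟨Nat.prime_three⟩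
  have h1 : 3 ∣ Fintype.card Fˣ ↔ Even a := by
    rw [Fintype.card_units, ha]
    obtain ⟨k, rfl | rfl⟩ := Nat.even_or_odd' a
    · simp only [even_two_mul, iff_true]
      rw [pow_mul]
      exact (Nat.modEq_iff_dvd' (Nat.one_le_pow _ _ (by norm_num))).1
        (by simpa using ((show 4 ≡ 1 [MOD 3] by decide).pow k).symm)
    · have : 4 ^ k % 3 = 1 := by simpa [Nat.ModEq] using (show 4 ≡ 1 [MOD 3] by decide).pow k
      rw [pow_succ, pow_mul, show 2 ^ 2 = 4 from rfl]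
      simp only [Nat.not_even_bit1, iff_false]
      omega
  rw [← Nat.not_even_iff_odd, ← h1]
  constructor
  · intro h ω hω
    have h0 : ω ≠ 0 := by rintro rfl; simp at hω
    refine h ((orderOf_eq_prime (x := Units.mk0 ω h0) (p := 3) (Units.ext ?_) fun e => ?_) ▸
      orderOf_dvd_card)
    · push_cast
      simp only [Units.val_mk0]
      linear_combination (ω - 1) * hω
    · have : ω = 1 := congrArg Units.val e
      rw [this] at hω
      exact one_ne_zero (by linear_combination hω - h2 : (1 : F) = 0)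
  · intro h h3
    obtain ⟨ω, hω⟩ := exists_prime_orderOf_dvd_card 3 h3
    have e1 : (ω : F) ^ 3 = 1 := by rw [← Units.val_pow_eq_pow_val, ← hω, pow_orderOf_eq_one, Units.val_one]
    have e2 : (ω : F) - 1 ≠ 0 := fun e => by
      rw [show ω = 1 from Units.ext (sub_eq_zero.1 e), orderOf_one] at hω
      omega
    exact h ω (mul_left_cancel₀ e2 (by linear_combination e1))

end conv

/-- The binary coset actions of `PSL(2, q)`. -/
theorem bin_psl (h4 : 4 ≤ Fintype.card F) (h5 : Fintype.card F ≠ 5) (H : Subgroup PSL(2, F))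
    (hH : H ≠ ⊤) : Bin PSL(2, F) (PSL(2, F) ⧸ H) ↔ (H = ⊥ ∨ ((∃ a : ℕ, Fintype.card F = 2 ^ a) ∧
      ∃ P : Sylow 2 PSL(2, F), H = P) ∨
      ((∃ a : ℕ, Odd a ∧ Fintype.card F = 2 ^ a) ∧ Nat.card H = 3)) := by
  have hX := stab_ne_top hH
  have hs := stabilizer_quotient H
  have two : ∀ {a : ℕ}, Fintype.card F = 2 ^ a → (2 : F) = 0 := fun {a} h => two_eq_zero_of_even (by
    rw [h] at h4 ⊢
    exact (Nat.even_pow' (by rintro rfl; omega)).2 even_two)
  constructor
  · intro hb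
    by_cases h0 : H = ⊥
    · exact Or.inl h0
    obtain ⟨⟨z, hz⟩, hz1⟩ := Subgroup.ne_bot_iff_exists_ne_one.1 h0
    replace hz1 : z ≠ 1 := fun e => hz1 (Subtype.ext e)
    rw [← hs] at hz
    rcases Nat.even_or_odd (Fintype.card F) with hq | hq
    · have h2 := two_eq_zero_of_even hq
      have : CharP F 2 := (CharP.charP_iff_prime_eq_zero Nat.prime_two).2 (by exact_mod_cast h2)
      obtain ⟨a, -, ha⟩ := FiniteField.card F 2
      rcases Nat.even_or_odd (Nat.card H) with he | he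
      · obtain ⟨t, ht, ht2⟩ := exists_involution_of_even he
        obtain ⟨P, hP⟩ := exists_sylow_eq h2 ht2
        refine Or.inr (Or.inl ⟨⟨a, ha⟩, P, hP ▸ le_antisymm (fun g hg => ?_) fun g hg => ?_⟩)
        · exact Subgroup.mem_centralizer_singleton_iff.2 (stab_eq_of_two h2 hb hX ht2
            (p := ((1 : PSL(2, F)) : _ ⧸ H)) (hs.ge ht) (hs.ge hg))
        · rw [Subgroup.mem_centralizer_singleton_iff] at hg
          by_cases hg1 : g = 1
          · rw [hg1]; exact H.one_mem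
          · have := fix_eq_of_comm hb one_psl ht2 (orderOf_eq_two (sq_of_comm h2 ht2 hg) hg1) hg.symm
            exact hs.le (show ((1 : PSL(2, F)) : _ ⧸ H) ∈ fixedBy _ g from this ▸ hs.ge ht)
      · have ho : ∀ p : _ ⧸ H, Odd (Nat.card (stabilizer PSL(2, F) p)) := fun p => card_stab H p ▸ he
        exact Or.inr (Or.inr ⟨⟨a, (odd_iff_no_root h2 ha).2 (no_root hb ho h2 hz1 hz), ha⟩,
          hs ▸ card_eq_three hb ho h2 (hs.symm ▸ h0)⟩)
    · have h7 : 7 ≤ Fintype.card F := by obtain ⟨k, hk⟩ := hq; omega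
      exact absurd (eq_one_of_odd hb (odd_of_odd hq h7 hb hX) (two_ne_zero_of_odd hq) hz) hz1
  · rintro (rfl | ⟨⟨a, ha⟩, P, rfl⟩ | ⟨⟨a, ha, ha'⟩, h3⟩)
    · refine bin_of_free fun g p hp => Subgroup.mem_bot.1 ?_
      rw [← Subgroup.eq_bot_of_card_eq (stabilizer PSL(2, F) p) (by rw [card_stab]; simp)]
      exact hp
    · refine bin_of_sylow (two ha) fun p => ?_
      obtain ⟨x, rfl⟩ := QuotientGroup.mk_surjective p
      refine ⟨x • P, ?_⟩
      ext g
      rw [mem_stabilizer_iff, quot_smul_iff, Sylow.coe_subgroup_smul,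
        Subgroup.mem_pointwise_smul_iff_inv_smul_mem, MulAut.smul_def, MulAut.conj_inv_apply]
    · exact bin_of_three (two ha') ((odd_iff_no_root (two ha') ha').1 ha) fun p => (card_stab H p).trans h3

end CfsgLib.Perm.Binary
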