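/-
Binary coset actions of `PSU₃(q)`, `q` even, with stabilizers of even order; groups with one class
of involutions.
-/
import Cfsg.Agent.Lib.Perm.BinU3
import Cfsg.Agent.Lib.Perm.BinPSL
import Cfsg.Agent.Lib.Perm.BenderPow
import Cfsg.Agent.Lib.Unitary.UTAut

set_option autoImplicit false
set_option linter.unusedSectionVars false

namespace CfsgLib.Perm.BinU

open Cfsg Cfsg.Agent.S5737 MulAction CfsgLib.StrEmb CfsgLib.Unitary CfsgLib.Perm.Binary Pointwise

section gen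

variable {G : Type*} [Group G]

/-- the centre of a subgroup -/
abbrev zc (P : Subgroup G) : Subgroup G := (Subgroup.center P).map P.subtype

theorem mem_zc {P : Subgroup G} {x : G} : x ∈ zc P ↔ x ∈ P ∧ ∀ y ∈ P, y * x = x * y :=
  ⟨fun ⟨z, hz, e⟩ => e ▸ ⟨z.2, fun y hy => congrArg Subtype.val (Subgroup.mem_center_iff.1 hz ⟨y, hy⟩)⟩,
    fun h => ⟨⟨x, h.1⟩, Subgroup.mem_center_iff.2 fun y => Subtype.ext (h.2 y y.2), rfl⟩⟩

theorem zc_map {G' : Type*} [Group G'] (e : G ≃* G') (P : Subgroup G) :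
    zc (P.map e.toMonoidHom) = (zc P).map e.toMonoidHom := by
  ext x
  obtain ⟨x, rfl⟩ := e.surjective x
  refine Iff.trans ?_ (Subgroup.mem_map_iff_mem (f := e.toMonoidHom) e.injective).symm
  rw [mem_zc, mem_zc]
  refine and_congr (Subgroup.mem_map_iff_mem (f := e.toMonoidHom) e.injective)
    ⟨fun h y hy => e.injective (by simpa using h _ ⟨y, hy, rfl⟩), ?_⟩
  rintro h _ ⟨y, hy, rfl⟩
  simpa using congrArg e (h y hy)

/-- `H` consists of `1` and the involutions commuting with `t` -/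
def ZS (t : G) (H : Subgroup G) : Prop := ∀ g, g ∈ H ↔ g * g = 1 ∧ Commute g t

theorem ZS.conj {t : G} {H : Subgroup G} (h : ZS t H) (a : G) :
    ZS (a * t * a⁻¹) (H.map (MulAut.conj a).toMonoidHom) := fun g => by
  obtain ⟨g, rfl⟩ := (MulAut.conj a).surjective g
  refine (Subgroup.mem_map_iff_mem (f := (MulAut.conj a).toMonoidHom) (MulAut.conj a).injective).trans
    ((h g).trans (and_congr ?_ ?_))
  · rw [← map_mul, map_eq_one_iff _ (MulAut.conj a).injective]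
  · exact (commute_map_iff (f := MulAut.conj a) (MulAut.conj a).injective).symm

theorem ZS.unique {t : G} {H K : Subgroup G} (h : ZS t H) (k : ZS t K) : H = K :=
  Subgroup.ext fun g => (h g).trans (k g).symm

theorem sylow_map_iff [Finite G] {G' : Type*} [Group G'] (e : G ≃* G') (H : Subgroup G)
    (f : Subgroup G → Subgroup G) (f' : Subgroup G' → Subgroup G')
    (hf : ∀ P : Subgroup G, f' (P.map e.toMonoidHom) = (f P).map e.toMonoidHom) :
    (∃ P : Sylow 2 G', H.map e.toMonoidHom = f' P) ↔ ∃ P : Sylow 2 G, H = f P := by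
  have : Fact (Nat.Prime 2) := ⟨Nat.prime_two⟩
  have := Finite.of_equiv G e.toEquiv
  constructor
  · rintro ⟨P, h⟩
    refine ⟨P.mapSurjective (f := e.symm.toMonoidHom) e.symm.surjective,
      Subgroup.map_injective (f := e.toMonoidHom) e.injective ?_⟩
    rw [h, ← hf]
    congr 1
    refine Eq.trans ?_ (Subgroup.map_map (P : Subgroup G') e.toMonoidHom e.symm.toMonoidHom).symm
    simp
  · rintro ⟨P, rfl⟩
    exact ⟨P.mapSurjective (f := e.toMonoidHom) e.surjective, (hf P).symm⟩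

end gen

variable {F : Type*} [Field F] [Fintype F] {q : ℕ} [hF : Fact (Fintype.card F = q ^ 2)]
  {G : Type*} [Group G] [Finite G]

theorem cube_central {z : SU 3 F q} (h : z ∈ Subgroup.center (SU 3 F q)) : z ^ 3 = 1 := by
  have h1 : (⟨z, h⟩ : Subgroup.center (SU 3 F q)) ^ 3 = 1 := orderOf_dvd_iff_pow_eq_one.1
    ((orderOf_dvd_natCard _).trans (card_center_SU (n := 3) hF.out (by norm_num) ▸ Nat.gcd_dvd_left _ _))
  exact congrArg Subtype.val h1

variable (h2 : (2 : F) = 0) (π : SU 3 F q →* G) (hπ : Function.Surjective π)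
  (hk : ∀ g, π g = 1 ↔ g ∈ Subgroup.center (SU 3 F q))
include h2 hπ hk

theorem exists_lift {t : G} (ht : orderOf t = 2) : ∃ s v, IsT (q := q) s v ∧ π s = t := by
  obtain ⟨g, rfl⟩ := hπ t
  have h1 := mul_self_of_orderOf ht
  have h3 : π (g ^ 3) = π g := by rw [map_pow, pow_three', h1, one_mul]
  obtain ⟨v, hv⟩ := exists_isT_of_ord h2 (s := g ^ 3) (orderOf_eq_two (by
    rw [← pow_add, ← cube_central ((hk (g * g)).1 (by rw [map_mul, h1])), ← pow_two, ← pow_mul])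
    fun e => ne_one_of_orderOf ht (by rw [← h3, e, map_one]))
  exact ⟨_, v, hv, h3⟩

omit hπ in
theorem perp_of_comm {s t : SU 3 F q} {v w : Fin 3 → F} (hs : IsT s v) (ht : IsT t w)
    (h : Commute (π s) (π t)) : hermForm 3 F q v w = 0 := by
  have s2 := mul_self_of_orderOf (hs.ord h2)
  have t2 := mul_self_of_orderOf (ht.ord h2)
  have h1 : s * (t * s * t) ∈ Subgroup.center (SU 3 F q) := (hk _).1 (by
    simp only [map_mul]
    rw [← h.eq, mul_assoc, ← map_mul π t, t2, map_one, mul_one, ← map_mul, s2, map_one])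
  generalize hz : s * (t * s * t) = z at h1
  have h3 : t * s * t = s * z := by rw [← hz, ← mul_assoc, s2, one_mul]
  have h4 : z * z = 1 := by
    have : (s * z) * (s * z) = 1 := by
      rw [← h3, mul_assoc, mul_assoc t s t, ← mul_assoc t t, t2, one_mul, mul_assoc, ← mul_assoc s s,
        s2, one_mul, t2]
    rwa [mul_assoc, ← mul_assoc z, ← Subgroup.mem_center_iff.1 h1 s, mul_assoc, ← mul_assoc, s2,
      one_mul] at this
  have h5 := cube_central h1
  rw [pow_three, h4, mul_one] at h5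
  rw [h5, mul_one] at h3
  refine hs.of_comm ht ?_
  rw [Commute, SemiconjBy]
  conv_lhs => rw [← h3, mul_assoc, t2, mul_one]

theorem comm_trans {a b t : G} (ha : a * a = 1) (hb : b * b = 1) (ht : orderOf t = 2)
    (h1 : Commute a t) (h3 : Commute b t) : Commute a b := by
  by_cases a1 : a = 1
  · simp [a1]
  by_cases b1 : b = 1
  · simp [b1]
  obtain ⟨a, u, hu, rfl⟩ := exists_lift h2 π hπ hk (orderOf_eq_two ha a1)
  obtain ⟨b, v, hv, rfl⟩ := exists_lift h2 π hπ hk (orderOf_eq_two hb b1)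
  obtain ⟨t, w, hw, rfl⟩ := exists_lift h2 π hπ hk ht
  obtain ⟨c, rfl⟩ := prop_of_perp h2 hw.1 hw.2.1 hu.2.1 (perp_of_comm h2 π hk hu hw h1)
  obtain ⟨d, rfl⟩ := prop_of_perp h2 hw.1 hw.2.1 hv.2.1 (perp_of_comm h2 π hk hv hw h3)
  exact (hu.comm hv (by rw [herm_smul_left, herm_smul_right, hw.2.1, mul_zero, mul_zero])).map π

theorem ZS.of_mem {t x : G} {H : Subgroup G} (h : ZS t H) (ht : orderOf t = 2) (hx : x ∈ H)
    (h1 : x ≠ 1) : ZS x H := fun g => by
  have h3 := (h x).1 hx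
  exact (h g).trans (and_congr_right fun hg => ⟨fun h4 => comm_trans h2 π hπ hk hg h3.1 ht h4 h3.2,
    fun h4 => comm_trans h2 π hπ hk hg (mul_self_of_orderOf ht) (orderOf_eq_two h3.1 h1) h4 h3.2.symm⟩)

theorem exists_ZS (P : Sylow 2 G) : ∃ t, orderOf t = 2 ∧ ZS t (zc (P : Subgroup G)) := by
  have : Fact (Nat.Prime 2) := ⟨Nat.prime_two⟩
  let φ := π.comp (utSU (q := q) h2)
  have hφ : Function.Injective φ := (injective_iff_map_eq_one _).2 fun u hu =>
    (injective_iff_map_eq_one _).1 (utPSU_injective h2) u ((QuotientGroup.eq_one_iff _).2 ((hk _).1 hu))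
  obtain ⟨n, -, hq⟩ := exists_q_eq (q := q) h2
  have h1 : Nat.card φ.range = q ^ 3 := by
    rw [← UT.card_eq (F := F)]; exact Nat.card_congr (MonoidHom.ofInjective hφ).symm.toEquiv
  have h3 : IsPGroup 2 φ.range := IsPGroup.of_card (n := n * 3) (by rw [h1, pow_mul, ← hq])
  have h4 : ¬ 2 ∣ φ.range.index := by
    have hG := Subgroup.card_dvd_of_surjective π hπ
    rw [← φ.range.card_mul_index, h1, card_SU_three] at hG
    have h5 := Nat.dvd_of_mul_dvd_mul_left (by rw [hq]; positivity) hG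
    exact fun h => (odd_su_cofactor h2).not_two_dvd_nat (h.trans h5)
  have key : ∀ {s : SU 3 F q} {a : F}, IsT s (a • hv3 (1 : F) 0 0) →
      ∃ u : UT F q, u.X = 0 ∧ s = utSU h2 u := fun {s a} hs =>
    ⟨⟨0, a ^ q * a, by rw [mul_pow, pow_q_pow_q hF.out]; linear_combination a ^ q * a * h2⟩, rfl,
      su_ext fun w => by
        obtain ⟨x, y, z, rfl⟩ := exists_hv3 h2 w
        rw [hs.2.2, utSU_smul, herm_smul_right, herm_hv3 h2, smul_smul, smul_hv3, hv3_add]
        simp [zero_pow_q hF.out]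
        congr 1
        ring⟩
  obtain ⟨s, hs⟩ := exists_isT (q := q) h2 hv3_e_ne (herm_e h2)
  obtain ⟨u, hu, rfl⟩ := key (a := 1) (by rwa [one_smul])
  have h5 : ZS (φ u) (zc φ.range) := fun g => by
    rw [mem_zc]
    constructor
    · rintro ⟨⟨w, rfl⟩, hw⟩
      refine ⟨?_, (hw _ ⟨u, rfl⟩).symm⟩
      rw [← map_mul, (UT.mul_self_eq_one_iff h2).2 (UT.mem_center_iff.1 (Subgroup.mem_center_iff.2
        fun y => hφ (by rw [map_mul, map_mul, hw _ ⟨y, rfl⟩]))), map_one]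
    · rintro ⟨g1, g2⟩
      by_cases g0 : g = 1
      · simp [g0]
      obtain ⟨g, v, hv, rfl⟩ := exists_lift h2 π hπ hk (orderOf_eq_two g1 g0)
      obtain ⟨c, rfl⟩ := prop_of_perp h2 hs.1 hs.2.1 hv.2.1 (perp_of_comm h2 π hk hv hs g2)
      obtain ⟨w, hw, rfl⟩ := key hv
      refine ⟨⟨w, rfl⟩, ?_⟩
      rintro _ ⟨y, rfl⟩
      exact (map_mul φ y w).symm.trans ((congrArg φ (Subgroup.mem_center_iff.1
        (UT.mem_center_iff.2 hw) y)).trans (map_mul φ w y))
  obtain ⟨a, rfl⟩ := exists_smul_eq G (h3.toSylow h4) P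
  refine ⟨a * φ u * a⁻¹, ?_, ?_⟩
  · rw [orderOf_conj, orderOf_injective φ hφ, ← orderOf_injective _ (utSU_injective h2), hs.ord h2]
  · exact (zc_map (MulAut.conj a) φ.range).symm ▸ h5.conj a

theorem bin_psu (hq : 3 ≤ q) (hone : Binary.One G) (H : Subgroup G) (hH : H ≠ ⊤)
    (he : Even (Nat.card H)) : Bin G (G ⧸ H) ↔ ∃ P : Sylow 2 G, H = zc (P : Subgroup G) := by
  have : Fact (Nat.Prime 2) := ⟨Nat.prime_two⟩
  have hs := stabilizer_quotient H
  constructor
  · intro hb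
    let := MulAction.compHom (G ⧸ H) π
    have h : Hyp F q (G ⧸ H) := ⟨h2, hq, (bin_of_equiv π hπ (Equiv.refl _) fun _ _ => rfl).2 hb,
      fun p e => stab_ne_top hH p (eq_top_iff.2 fun g _ => by
        obtain ⟨g, rfl⟩ := hπ g
        exact (e ▸ Subgroup.mem_top g : g ∈ stabilizer (SU 3 F q) p)),
      fun z hz p => show π z • p = p by rw [(hk z).2 hz, one_smul]⟩
    have hA : ∀ p : G ⧸ H, ∃ v : Fin 3 → F, A q p v := fun p => by
      obtain ⟨t, ht, ht2⟩ := exists_involution_of_even (card_stab H p ▸ he)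
      obtain ⟨s, v, hv, rfl⟩ := exists_lift h2 π hπ hk ht2
      exact ⟨v, s, hv, ht⟩
    have hsq : ∀ g ∈ H, g * g = 1 := fun g hg => by
      obtain ⟨g, rfl⟩ := hπ g
      rw [← map_mul, hk]
      exact h.sq_central hA (p := ((1 : G) : G ⧸ H)) (hs.ge hg)
    obtain ⟨t, ht, ht2⟩ := exists_involution_of_even he
    have h3 : ZS t H := fun g => ⟨fun hg => ⟨hsq g hg, by
      rw [Commute, SemiconjBy, ← inv_eq_of_mul_eq_one_right (hsq _ (H.mul_mem hg ht)), mul_inv_rev,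
        inv_eq_of_mul_eq_one_right (hsq _ hg), inv_eq_of_mul_eq_one_right (hsq _ ht)]⟩, fun hg => by
      by_cases g1 : g = 1
      · rw [g1]; exact H.one_mem
      have := fix_eq_of_comm hb hone ht2 (orderOf_eq_two hg.1 g1) hg.2.symm
      exact hs.le (show ((1 : G) : G ⧸ H) ∈ fixedBy _ g from this ▸ hs.ge ht)⟩
    obtain ⟨s, s2, h4⟩ := exists_ZS h2 π hπ hk default
    obtain ⟨a, rfl⟩ := isConj_iff.1 (hone _ _ s2 ht2)
    exact ⟨a • default, h3.unique ((zc_map (MulAut.conj a) _).symm ▸ h4.conj a)⟩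
  · rintro ⟨P, rfl⟩
    obtain ⟨t, t2, ht⟩ := exists_ZS h2 π hπ hk P
    generalize zc (P : Subgroup G) = H at ht
    have h3 : ∀ p : G ⧸ H, ∃ t, orderOf t = 2 ∧ ZS t (stabilizer G p) := fun p => by
      obtain ⟨x, rfl⟩ := QuotientGroup.mk_surjective p
      have : (x : G ⧸ H) = x • ((1 : G) : G ⧸ H) := by simp
      rw [this, stabilizer_smul_eq_stabilizer_map_conj, stabilizer_quotient]
      exact ⟨_, (orderOf_conj x t).trans t2, ht.conj x⟩
    refine bin_of_TI fun p r s x y hx hy x1 y1 hxy => ?_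
    obtain ⟨a, a2, ha⟩ := h3 p
    obtain ⟨b, b2, hb⟩ := h3 r
    obtain ⟨c, -, hc⟩ := h3 s
    have x2 := ((ha x).1 hx).1
    have y2 := ((hb y).1 hy).1
    have h4 := ha.of_mem h2 π hπ hk a2 hx x1
    refine (h4.of_mem h2 π hπ hk (orderOf_eq_two x2 x1) ((h4 y).2 ⟨y2, ?_⟩) y1).unique
      (hb.of_mem h2 π hπ hk b2 hy y1)
    rw [Commute, SemiconjBy, ← inv_eq_of_mul_eq_one_right ((hc _).1 hxy).1, mul_inv_rev,
      inv_eq_of_mul_eq_one_right x2, inv_eq_of_mul_eq_one_right y2]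

omit h2 hπ hk in
theorem bin_one_class [IsSimpleGroup G] (hone : Binary.One G) (H : Subgroup G) (hH : H ≠ ⊤)
    (he : Even (Nat.card H)) : Bin G (G ⧸ H) ↔
      (((∃ (F : Type) (_ : Field F) (_ : Fintype F) (a : ℕ), 2 ≤ a ∧ Fintype.card F = 2 ^ a ∧
          Nonempty (G ≃* Matrix.SpecialLinearGroup (Fin 2) F)) ∧ ∃ P : Sylow 2 G, H = P) ∨
        (Cfsg.Lie.IsoSuzuki G ∧ ∃ P : Sylow 2 G, H = zc (P : Subgroup G)) ∨
        ((∃ (F : Type) (_ : Field F) (_ : Fintype F) (a : ℕ), 2 ≤ a ∧ Fintype.card F = (2 ^ a) ^ 2 ∧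
          Nonempty (G ≃* Cfsg.PSU 3 F (2 ^ a))) ∧ ∃ P : Sylow 2 G, H = zc (P : Subgroup G))) := by
  obtain ⟨t, ht, ht2⟩ := exists_involution_of_even he
  have h0 : ∀ {G' : Type} [Group G'] (e : G ≃* G'), H.map e.toMonoidHom ≠ ⊥ ∧ H.map e.toMonoidHom ≠ ⊤ :=
    fun e => ⟨fun h => ne_one_of_orderOf ht2 (Subgroup.mem_bot.1
      ((Subgroup.map_eq_bot_iff_of_injective H e.injective).1 h ▸ ht)), fun h => hH
        (Subgroup.map_injective (f := e.toMonoidHom) e.injective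
          (h.trans (Subgroup.map_top_of_surjective _ e.surjective).symm))⟩
  have h4 : ∀ {a : ℕ}, 2 ≤ a → 4 ≤ 2 ^ a := fun h => Nat.pow_le_pow_right (n := 2) two_pos h
  have l2 : ∀ (F : Type) [Field F] [Fintype F] (a : ℕ), 2 ≤ a → Fintype.card F = 2 ^ a →
      (G ≃* Matrix.ProjectiveSpecialLinearGroup (Fin 2) F) → (Bin G (G ⧸ H) ↔ ∃ P : Sylow 2 G, H = P) :=
    fun F _ _ a ha hF e => by
      rw [bin_quot_iff e, bin_psl (hF ▸ h4 ha) (fun h => absurd (h.symm.trans hF ▸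
        (Nat.even_pow' (by omega)).2 even_two : Even 5) (by decide)) _ (h0 e).2,
        ← sylow_map_iff e H (fun x => x) (fun x => x) fun _ => rfl]
      refine ⟨?_, fun h => Or.inr (Or.inl ⟨⟨a, hF⟩, h⟩)⟩
      rintro (h | h | ⟨-, h⟩)
      · exact absurd h (h0 e).1
      · exact h.2
      · rw [Subgroup.card_map_of_injective e.injective] at h
        exact absurd (h ▸ he) (by decide)
  have sz : Cfsg.Lie.IsoSuzuki G → (Bin G (G ⧸ H) ↔ ∃ P : Sylow 2 G, H = zc (P : Subgroup G)) :=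
    fun ⟨F, _, _, m, hm, hF, ⟨e⟩⟩ => by
      rw [bin_quot_iff e, ← sylow_map_iff e H zc zc (zc_map e)]
      exact (Cfsg.Agent.S5737.result m hm hF _ (h0 e).2).trans (or_iff_right (h0 e).1)
  have u3 : ∀ (F : Type) [Field F] [Fintype F] (a : ℕ), 2 ≤ a → Fintype.card F = (2 ^ a) ^ 2 →
      (G ≃* Cfsg.PSU 3 F (2 ^ a)) → (Bin G (G ⧸ H) ↔ ∃ P : Sylow 2 G, H = zc (P : Subgroup G)) :=
    fun F _ _ a ha hF e => by
      have : Fact (Fintype.card F = (2 ^ a) ^ 2) := ⟨hF⟩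
      exact bin_psu (two_eq_zero_of_card (hF.trans (pow_mul 2 a 2).symm))
        (e.symm.toMonoidHom.comp (QuotientGroup.mk' _))
        (e.symm.surjective.comp (QuotientGroup.mk'_surjective _))
        (fun g => (map_eq_one_iff _ e.symm.injective).trans (QuotientGroup.eq_one_iff g))
        (le_trans (by norm_num) (h4 ha)) hone H hH he
  constructor
  · intro hb
    have hs := stabilizer_quotient H
    have hG : ¬ IsMulCommutative G := fun _ =>
      (Subgroup.Normal.eq_bot_or_eq_top (inferInstance : H.Normal)).elim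
        (fun h => ne_one_of_orderOf ht2 (Subgroup.mem_bot.1 (h ▸ ht))) hH
    rcases bender_pow hG (se_of_bin hb hone ht2 (p := ((1 : G) : G ⧸ H)) (hs.ge ht) (hs.symm ▸ hH)) with
      ⟨F, _, _, a, ha, hF, ⟨e⟩⟩ | h | ⟨F, _, _, a, ha, hF, ⟨e⟩⟩
    · exact Or.inl ⟨⟨F, _, _, a, ha, hF, ⟨e.trans (SL2.pmEquiv (two_eq_zero_of_card hF)).symm⟩⟩,
        (l2 F a ha hF e).1 hb⟩
    · exact Or.inr (Or.inl ⟨h, (sz h).1 hb⟩)
    · exact Or.inr (Or.inr ⟨⟨F, _, _, a, ha, hF, ⟨e⟩⟩, (u3 F a ha hF e).1 hb⟩)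
  · rintro (⟨⟨F, _, _, a, ha, hF, ⟨e⟩⟩, h⟩ | ⟨h, h'⟩ | ⟨⟨F, _, _, a, ha, hF, ⟨e⟩⟩, h⟩)
    · exact (l2 F a ha hF (e.trans (SL2.pmEquiv (two_eq_zero_of_card hF)))).2 h
    · exact (sz h).2 h'
    · exact (u3 F a ha hF e).2 h

end CfsgLib.Perm.BinU
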