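import Mathlib
import Cfsg.Agent.Lib.Perm.Ito3A
import Cfsg.Agent.Lib.Perm.MultiTransBurnside
import Cfsg.Agent.Lib.Core.MinNormal
import Cfsg.Agent.Lib.S4Cor.Basic
import Cfsg.Agent.Lib.Gold.All
import Cfsg.Agent.Lib.Gold.Cor1

/-!
Normal subgroups of triply transitive groups of degree divisible by three have at most two orbits on triples.
-/

set_option autoImplicit false

namespace CfsgLib.Perm

open MulAction Subgroup
open scoped Pointwise

universe u v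

variable {G : Type*} [Group G] {Ω : Type*} [MulAction G Ω]

/-- elementwise double transitivity of a subgroup -/
def Tr2 (H : Subgroup G) (Ω : Type*) [MulAction G Ω] : Prop :=
  ∀ a b c d : Ω, a ≠ b → c ≠ d → ∃ h ∈ H, h • a = c ∧ h • b = d

/-- a primitive Suzuki group of odd degree is doubly transitive -/
theorem sz_two [Finite G] [Finite Ω] [Nontrivial Ω] (hG : Cfsg.Lie.IsoSuzuki G) [IsPreprimitive G Ω]
    (hodd : ¬ 2 ∣ Nat.card Ω) {x y z : Ω} (hy : y ≠ x) (hz : z ≠ x) : ∃ g : G, g • x = x ∧ g • y = z := by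
  have := Fact.mk Nat.prime_two
  obtain ⟨F, _, _, m, hm, hF, ⟨e⟩⟩ := S4Cor.sz_model hG
  obtain ⟨P⟩ : Nonempty (Sylow 2 G) := inferInstance
  obtain ⟨b, hb⟩ := P.isPGroup'.nonempty_fixed_point_of_prime_not_dvd_card Ω hodd
  obtain ⟨e, he⟩ := Sz.Tits.exists_equiv_sylow e.symm P
  have h1 := Sz.Tits.eq_B_of_isCoatom (Sz.exists_ne_zero_one hm hF)
    (K := (stabilizer G b).comap e.toMonoidHom)
    ((e.comapSubgroup.isCoatom_iff _).2 (IsPreprimitive.isCoatom_stabilizer_of_isPreprimitive G b))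
    fun u hu => hb ⟨e u, he ▸ mem_map_of_mem _ hu⟩
  have h2 : ∀ g k, e g • b = e k • b ↔ g • (Sz.Tits.Pt.inf : (Sz.tits hF).Pt) = k • Sz.Tits.Pt.inf :=
    fun g k => by
      rw [← inv_smul_eq_iff, ← mul_smul, ← map_inv, ← map_mul, ← inv_smul_eq_iff (g := k), ← mul_smul]
      exact SetLike.ext_iff.1 h1 (k⁻¹ * g)
  obtain ⟨g₀, rfl⟩ := exists_smul_eq G b x
  obtain ⟨g₁, rfl⟩ := exists_smul_eq G b y
  obtain ⟨g₂, rfl⟩ := exists_smul_eq G b z
  obtain ⟨g₀, rfl⟩ := e.surjective g₀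
  obtain ⟨g₁, rfl⟩ := e.surjective g₁
  obtain ⟨g₂, rfl⟩ := e.surjective g₂
  obtain ⟨k, k0, k1⟩ := Sz.Tits.two_transitive (mt (h2 _ _).2 hy) (mt (h2 _ _).2 hz)
  exact ⟨e k, by rw [← mul_smul, ← map_mul, h2, mul_smul, k1], by rw [← mul_smul, ← map_mul, h2, mul_smul, k0]⟩

variable [Finite G] [Finite Ω] {H : Subgroup G} [hH : H.Normal]

theorem two_base [FaithfulSMul G Ω] (hG : IsMultiplyPretransitive G Ω 3) (h2 : Tr2 H Ω)
    (hn : 3 ∣ Nat.card Ω) (h3 : ∀ x ∈ H, x ^ 3 = 1 → ∀ y : Ω, x • y = y → x = 1) {a b : Ω} (hab : a ≠ b) :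
    Two H a b := by
  classical
  intro c hc
  suffices h : (∃ h ∈ H, h • a = a ∧ h • b = b ∧ h • c 0 = c 1) ∨ Two H a b from
    h.elim (fun h => ⟨0, 1, by decide, h⟩) fun h => h c hc
  by_cases h01 : c 0 = c 1
  · exact Or.inl ⟨1, H.one_mem, one_smul _ _, one_smul _ _, by rw [one_smul, h01]⟩
  have h4 : 4 ≤ Nat.card Ω := by
    have := Fintype.ofFinite Ω
    rw [Nat.card_eq_fintype_card, ← Finset.card_eq_four.2 ⟨a, b, c 0, c 1, hab, (hc 0).1.symm,
      (hc 1).1.symm, (hc 0).2.symm, (hc 1).2.symm, h01, rfl⟩]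
    exact Finset.card_le_univ _
  have t3 := isMultiplyPretransitive_three_iff.1 hG
  obtain ⟨x, hx, xa, xb⟩ := h2 a b a (c 0) hab (hc 0).1.symm
  have hx1 : x ≠ 1 := by rintro rfl; exact (hc 0).2 (by rw [← xb, one_smul])
  rcases Nat.even_or_odd (Nat.card Ω) with hev | hodd
  swap
  · obtain ⟨g, h⟩ := isMultiplyPretransitive_three_iff.1 (wagner_normal hodd (by omega) hG H
      fun e => hx1 (mem_bot.1 (e ▸ hx))) a b (c 0) a b (c 1) hab (hc 0).1.symm (hc 0).2.symm hab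
      (hc 1).1.symm (hc 1).2.symm
    exact Or.inl ⟨g, g.2, h⟩
  have hΔ : ¬ 2 ∣ ({a}ᶜ : Set Ω).ncard := by
    have := Set.ncard_add_ncard_compl ({a} : Set Ω)
    rw [Set.ncard_singleton] at this
    obtain ⟨k, hk⟩ := hev
    omega
  let Δ := SubMulAction.ofStabilizer G a
  have : FaithfulSMul (stabilizer G a) Δ := ⟨fun {g k} e => Subtype.ext
    (FaithfulSMul.eq_of_smul_eq_smul (α := Ω) fun y => by
      by_cases hy : y = a
      · rw [hy, g.2, k.2]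
      · exact congrArg Subtype.val (e ⟨y, hy⟩))⟩
  have t2 : IsMultiplyPretransitive (stabilizer G a) Δ 2 := is_two_pretransitive_iff.2 fun {x y z w} hxy hzw => by
    obtain ⟨g, g1, g2, g3⟩ := t3 a x y a z w (Ne.symm x.2) (Ne.symm y.2) (fun e => hxy (Subtype.ext e))
      (Ne.symm z.2) (Ne.symm w.2) fun e => hzw (Subtype.ext e)
    exact ⟨⟨g, g1⟩, Subtype.ext g2, Subtype.ext g3⟩
  obtain ⟨N, hN, hN0, hNH, hmin⟩ := Core.exists_minimal_normal_le (K := H.subgroupOf (stabilizer G a))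
    fun e => hx1 (congrArg Subtype.val (mem_bot.1 (e ▸ hx : (⟨x, xa⟩ : stabilizer G a) ∈ _)))
  by_cases hc' : IsMulCommutative N
  swap
  · obtain ⟨hs, hp⟩ := (burnside_minimal_normal t2 N hN0 hmin).resolve_left fun h => hc' h.1
    have : Nontrivial Δ := ⟨⟨b, hab.symm⟩, ⟨c 0, (hc 0).1⟩, fun e => (hc 0).2 (congrArg Subtype.val e).symm⟩
    obtain ⟨g, g1, g2⟩ := sz_two (Gold.Cor.isoSuzuki_of_three Gold.all hc' fun h => by
      have := Fact.mk Nat.prime_three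
      obtain ⟨y, hy⟩ := exists_prime_orderOf_dvd_card' 3 h
      have e := h3 y (hNH y.2) (congrArg (fun z : N => (z.1.1 : G))
        (hy ▸ pow_orderOf_eq_one y : y ^ 3 = 1)) a y.1.2
      rw [show y = 1 from Subtype.ext (Subtype.ext e), orderOf_one] at hy
      omega) (Ω := Δ) hΔ (x := ⟨b, hab.symm⟩) (y := ⟨c 0, (hc 0).1⟩) (z := ⟨c 1, (hc 1).1⟩)
      (fun e => (hc 0).2 (congrArg Subtype.val e)) fun e => (hc 1).2 (congrArg Subtype.val e)
    exact Or.inl ⟨g, hNH g.2, g.1.2, congrArg Subtype.val g1, congrArg Subtype.val g2⟩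
  let U := N.map (stabilizer G a).subtype
  have u1 : ∀ u ∈ U, u • a = a := by rintro _ ⟨u, -, rfl⟩; exact u.2
  have u2 : ∀ g : G, g • a = a → ∀ u ∈ U, g * u * g⁻¹ ∈ U := by
    rintro g hg _ ⟨u, hu, rfl⟩
    exact ⟨_, hN.conj_mem u hu ⟨g, hg⟩, rfl⟩
  have u3 : ∀ u ∈ U, ∀ v ∈ U, u * v = v * u := by
    rintro _ ⟨u, hu, rfl⟩ _ ⟨v, hv, rfl⟩
    exact congrArg (fun z : N => (z.1.1 : G)) (hc'.is_comm.comm ⟨u, hu⟩ ⟨v, hv⟩)
  have u4 : ∀ y z, y ≠ a → z ≠ a → ∃ u ∈ U, u • y = z := fun y z hy hz => by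
    obtain ⟨u, hu, e⟩ := normal_transitive_of_two_transitive t2 N hN0 (⟨y, hy⟩ : Δ) ⟨z, hz⟩
    exact ⟨u, ⟨u, hu, rfl⟩, congrArg Subtype.val e⟩
  have u5 : ∀ y, y ≠ a → ∀ u ∈ U, u • y = y → u = 1 := fun y hy u hu e =>
    FaithfulSMul.eq_of_smul_eq_smul (α := Ω) fun z => by
      by_cases hz : z = a
      · rw [hz, u1 u hu, one_smul]
      obtain ⟨w, hw, rfl⟩ := u4 y z hy hz
      rw [← mul_smul, u3 u hu w hw, mul_smul, e, one_smul]
  let R : Ω → Subgroup G := fun x => ⨅ (g : G) (_ : g • x = a), U.comap (MulAut.conj g).toMonoidHom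
  have hR : ∀ x u, u ∈ R x ↔ ∀ g : G, g • x = a → g * u * g⁻¹ ∈ U := fun x u => by simp [R, mem_iInf]
  have hR' : ∀ x (g : G), g • x = a → ∀ u ∈ U, g⁻¹ * u * g ∈ R x := fun x g hg u hu => (hR _ _).2 fun k hk => by
    simpa [mul_assoc] using u2 (k * g⁻¹) (by rw [mul_smul, inv_smul_eq_iff.2 hg.symm, hk]) u hu
  have tr : ∀ x, ∃ g : G, g • x = a := fun x => by
    by_cases e : x = a
    · exact ⟨1, by rw [e, one_smul]⟩
    · exact (h2 x a a x e (Ne.symm e)).imp fun g h => h.2.1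
  have reg : ∀ x y, y ≠ x → ∀ u ∈ R x, u • y = y → u = 1 := fun x y hy u hu e => by
    obtain ⟨g, hg⟩ := tr x
    simpa using u5 (g • y) (fun e => hy (MulAction.injective g (e.trans hg.symm))) _ ((hR _ _).1 hu g hg)
      (by simp [mul_smul, e])
  have fix : ∀ x, ∀ u ∈ R x, u • x = x := fun x u hu => by
    obtain ⟨g, hg⟩ := tr x
    have := u1 _ ((hR _ _).1 hu g hg)
    rw [← hg] at this
    simpa [mul_smul] using this
  refine Or.inr (Mou.two (N := R) ⟨fix, fun g x u hu => (hR _ _).2 fun k hk => ?_, fun x u hu v hv => ?_,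
    fun x y z hy hz => ?_, reg, fun x u hu e => ?_, t3⟩ hab (fun x u hu => ?_) h3 hn)
  · simpa [mul_assoc] using (hR _ _).1 hu (k * g) (by rw [mul_smul, hk])
  · obtain ⟨g, hg⟩ := tr x
    have := u3 _ ((hR _ _).1 hu g hg) _ ((hR _ _).1 hv g hg)
    rwa [conj_mul, conj_mul, mul_left_inj, mul_right_inj] at this
  · obtain ⟨g, hg⟩ := tr x
    obtain ⟨u, hu, e⟩ := u4 (g • y) (g • z) (fun e => hy (MulAction.injective g (e.trans hg.symm)))
      fun e => hz (MulAction.injective g (e.trans hg.symm))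
    exact ⟨_, hR' x g hg u hu, by rw [mul_smul, mul_smul, e, inv_smul_smul]⟩
  · obtain ⟨g, hg⟩ := tr x
    obtain ⟨y, hy, e'⟩ := exists_fixed_of_pow Nat.prime_two (x := g * u * g⁻¹)
      (by rw [conj_pow, pow_two, e]; simp) ({a}ᶜ : Set Ω) (fun y hy e => hy (MulAction.injective _
        (Eq.trans e (u1 _ ((hR _ _).1 hu g hg)).symm))) hΔ
    simpa using u5 y hy _ ((hR _ _).1 hu g hg) e'
  · obtain ⟨g, hg⟩ := tr x
    obtain ⟨w, hw, e⟩ := (hR _ _).1 hu g hg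
    simpa [mul_assoc] using hH.conj_mem _ (e ▸ hNH hw : g * u * g⁻¹ ∈ H) g⁻¹

omit [Finite Ω] hH in
theorem witt {p : ℕ} [Fact p.Prime] {P L : Subgroup G} (hPL : P ≤ L) (hP : IsPGroup p P)
    (hi : ¬ p ∣ P.relIndex L) {g : G} (h : ∀ s ∈ P, g * s * g⁻¹ ∈ L) :
    ∃ k ∈ L, k⁻¹ * g ∈ normalizer (P : Set G) := by
  obtain ⟨k, hk, hk'⟩ := Coprime.exists_conj_smul_le_sylow hPL hP hi (U := MulAut.conj g • P)
    (by rintro _ ⟨s, hs, rfl⟩; exact h s hs) (Coprime.isPGroup_conj_smul g hP)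
  have heq := eq_of_le_of_card_ge hk' (by rw [Coprime.card_conj_smul, Coprime.card_conj_smul])
  exact ⟨k, hk, by
    rw [Coprime.mem_normalizer_iff_conj_smul_eq, map_mul, mul_smul, heq, map_inv, inv_smul_smul]⟩

omit [Finite Ω] in
theorem card_stab2_le {g : G} (a b : Ω) : Nat.card (H ⊓ stabilizer G a ⊓ stabilizer G b : Subgroup G) ≤
    Nat.card (H ⊓ stabilizer G (g • a) ⊓ stabilizer G (g • b) : Subgroup G) := by
  rw [← Coprime.card_conj_smul g]
  refine card_le_of_le ?_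
  rintro _ ⟨s, ⟨⟨h1, h2⟩, h3⟩, rfl⟩
  refine ⟨⟨hH.conj_mem s h1 g, ?_⟩, ?_⟩
  · change (g * s * g⁻¹) • g • a = g • a
    rw [mul_smul, inv_smul_smul, mul_smul, show s • a = a from h2]
  · change (g * s * g⁻¹) • g • b = g • b
    rw [mul_smul, inv_smul_smul, mul_smul, show s • b = b from h3]

omit [Finite G] in
theorem ncard_rel_dvd (hG : IsMultiplyPretransitive G Ω 3) {a b c : Ω} (hab : a ≠ b) (ha : c ≠ a) (hb : c ≠ b) :
    {z | ∃ h ∈ H, h • a = a ∧ h • b = b ∧ h • c = z}.ncard ∣ Nat.card Ω - 2 := by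
  classical
  have := card_orbit_normal_fixing_dvd hG H {a, b} (Finset.card_pair hab) (c := c) (by simp [ha, hb])
  convert this using 1
  rw [Nat.card_coe_set_eq]
  congr 1
  ext z
  constructor
  · rintro ⟨h, hh, h1, h2, rfl⟩
    exact ⟨⟨⟨h, hh⟩, (mem_fixingSubgroup_iff H).2 (by simp [h1, h2])⟩, rfl⟩
  · rintro ⟨h, rfl⟩
    have := (mem_fixingSubgroup_iff H).1 h.2
    exact ⟨h, h.1.2, this a (by simp), this b (by simp), rfl⟩

theorem two_aux (n : ℕ) : ∀ (G : Type u) (Ω : Type v) [Group G] [Finite G] [Finite Ω] [MulAction G Ω]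
    (H : Subgroup G) [H.Normal], Nat.card Ω = n → 3 ∣ n → IsMultiplyPretransitive G Ω 3 → Tr2 H Ω →
    ∀ a b : Ω, a ≠ b → Two H a b := by
  induction n using Nat.strong_induction_on with
  | _ n ih =>
  intro G Ω _ _ _ _ H hH hn h3 hG h2 a b hab
  have := Fact.mk Nat.prime_three
  have t3 := isMultiplyPretransitive_three_iff.1 hG
  obtain ⟨P, -, hPK, hP, hi⟩ := Coprime.exists_le_sylow_relIndex (p := 3)
    (bot_le : ⊥ ≤ H ⊓ stabilizer G a ⊓ stabilizer G b) IsPGroup.of_bot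
  have hn2 : 2 ≤ n := hn ▸ Finite.one_lt_card_iff_nontrivial.2 ⟨a, b, hab⟩
  by_cases hfix : ∀ x ∈ P, ∀ y : Ω, x • y = y
  · let f := (toPermHom G Ω).rangeRestrict
    have hf : Function.Surjective f := MonoidHom.rangeRestrict_surjective _
    have : (H.map f).Normal := hH.map f hf
    have h4 : ¬ 3 ∣ Nat.card ((H ⊓ stabilizer G a ⊓ stabilizer G b).map f) := fun h => hi (h.trans (by
      rw [← relIndex_ker]
      exact relIndex_dvd_of_le_left _ fun x hx => Subtype.ext (Equiv.ext (hfix x hx))))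
    have := two_base (H := H.map f) (isMultiplyPretransitive_three_iff.2 fun a b c a' b' c' h1 h2 h3 h4 h5 h6 =>
      (t3 a b c a' b' c' h1 h2 h3 h4 h5 h6).elim fun g h => ⟨f g, h⟩)
      (fun a b c d h1 h3 => (h2 a b c d h1 h3).elim fun g h => ⟨f g, mem_map_of_mem _ h.1, h.2⟩) (hn ▸ h3)
      (by
        rintro _ ⟨x, hx, rfl⟩ x3 y hy
        obtain ⟨z, hz, e⟩ := exists_fixed_of_pow Nat.prime_three x3 ({y}ᶜ : Set Ω)
          (fun z hz e => hz (MulAction.injective _ (Eq.trans e hy.symm))) (by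
            have := Set.ncard_add_ncard_compl ({y} : Set Ω)
            rw [Set.ncard_singleton] at this
            omega)
        obtain ⟨g, -, rfl, rfl⟩ := h2 y z a b (Ne.symm hz) hab
        have h5 : f g * f x * (f g)⁻¹ ∈ (H ⊓ stabilizer G (g • y) ⊓ stabilizer G (g • z)).map f :=
          ⟨g * x * g⁻¹, ⟨⟨hH.conj_mem x hx g, by
            change (g * x * g⁻¹) • g • y = g • y
            rw [mul_smul, inv_smul_smul, mul_smul, show x • y = y from hy]⟩, by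
            change (g * x * g⁻¹) • g • z = g • z
            rw [mul_smul, inv_smul_smul, mul_smul, show x • z = z from e]⟩, by simp⟩
        by_contra h1
        refine h4 ((orderOf_eq_prime ?_ ?_).symm.dvd.trans (Subgroup.orderOf_dvd_natCard _ h5))
        · rw [conj_pow, x3]; simp
        · simpa using h1) hab
    intro c hc
    obtain ⟨j, k, hjk, _, ⟨h, hh, rfl⟩, e⟩ := this c hc
    exact ⟨j, k, hjk, h, hh, e⟩
  have hK : ∀ x y : fixSub Ω P, x ≠ y → ∀ L : Subgroup G, P ≤ L →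
      L ≤ H ⊓ stabilizer G (x : Ω) ⊓ stabilizer G (y : Ω) → ¬ 3 ∣ P.relIndex L := fun x y hxy L h1 h4 h5 => by
    obtain ⟨g, -, ga, gb⟩ := h2 a b x y hab fun e => hxy (Subtype.ext e)
    have e1 := card_stab2_le (H := H) (g := g) a b
    have e2 := card_stab2_le (H := H) (g := g⁻¹) (g • a) (g • b)
    rw [inv_smul_smul, inv_smul_smul] at e2
    have e3 := le_antisymm e1 e2
    rw [ga, gb, ← relIndex_mul_card hPK, ← relIndex_mul_card (h1.trans h4)] at e3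
    rw [Nat.eq_of_mul_eq_mul_right Nat.card_pos e3] at hi
    exact hi (h5.trans (Dvd.intro _ (relIndex_mul_relIndex _ _ _ h1 h4)))
  have hPH : P ≤ H := fun x hx => (hPK hx).1.1
  have hcj : ∀ (g : G) (x y : fixSub Ω P), g • (x : Ω) = y → ∀ s ∈ P, g * s * g⁻¹ ∈ stabilizer G (y : Ω) :=
    fun g x y e s hs => by
      rw [mem_stabilizer_iff, ← e, mul_smul, inv_smul_smul, mul_smul, show s • (x : Ω) = x from x.2 ⟨s, hs⟩]
  have := ih (Nat.card (fixSub Ω P)) (hn ▸ Finite.card_subtype_lt (p := (· ∈ fixSub Ω P))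
      (by by_contra! h; exact hfix fun x hx y => h y ⟨x, hx⟩ : ∃ y, ¬ y ∈ fixSub Ω P).choose_spec)
    (normalizer (P : Set G)) (fixSub Ω P) (H.subgroupOf _) rfl
    ((Nat.ModEq.dvd_iff (hP.card_modEq_card_fixedPoints Ω) dvd_rfl).1 (hn ▸ h3))
    (isMultiplyPretransitive_three_iff.2 fun x y z x' y' z' h1 h2 h3 h4 h5 h6 => by
      obtain ⟨g, g1, g2, g3⟩ := t3 x y z x' y' z' (Subtype.coe_ne_coe.2 h1) (Subtype.coe_ne_coe.2 h2)
        (Subtype.coe_ne_coe.2 h3) (Subtype.coe_ne_coe.2 h4) (Subtype.coe_ne_coe.2 h5) (Subtype.coe_ne_coe.2 h6)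
      have hle : P ≤ H ⊓ stabilizer G (x' : Ω) ⊓ stabilizer G (y' : Ω) ⊓ stabilizer G (z' : Ω) :=
        fun s hs => ⟨⟨⟨hPH hs, x'.2 ⟨s, hs⟩⟩, y'.2 ⟨s, hs⟩⟩, z'.2 ⟨s, hs⟩⟩
      obtain ⟨k, hk, h⟩ := witt hle hP (hK x' y' h4 _ hle inf_le_left) (g := g) fun s hs =>
        ⟨⟨⟨hH.conj_mem s (hPH hs) g, hcj g x x' g1 s hs⟩, hcj g y y' g2 s hs⟩, hcj g z z' g3 s hs⟩
      refine ⟨⟨_, h⟩, Subtype.ext ?_, Subtype.ext ?_, Subtype.ext ?_⟩
      · change (k⁻¹ * g) • (x : Ω) = x'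
        rw [mul_smul, g1, inv_smul_eq_iff, hk.1.1.2]
      · change (k⁻¹ * g) • (y : Ω) = y'
        rw [mul_smul, g2, inv_smul_eq_iff, hk.1.2]
      · change (k⁻¹ * g) • (z : Ω) = z'
        rw [mul_smul, g3, inv_smul_eq_iff, hk.2])
    (fun x y x' y' h1 h4 => by
      obtain ⟨g, hg, g1, g2⟩ := h2 x y x' y' (Subtype.coe_ne_coe.2 h1) (Subtype.coe_ne_coe.2 h4)
      have hle : P ≤ H ⊓ stabilizer G (x' : Ω) ⊓ stabilizer G (y' : Ω) :=
        fun s hs => ⟨⟨hPH hs, x'.2 ⟨s, hs⟩⟩, y'.2 ⟨s, hs⟩⟩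
      obtain ⟨k, hk, h⟩ := witt hle hP (hK x' y' h4 _ hle le_rfl) (g := g) fun s hs =>
        ⟨⟨hH.conj_mem s (hPH hs) g, hcj g x x' g1 s hs⟩, hcj g y y' g2 s hs⟩
      refine ⟨⟨_, h⟩, H.mul_mem (H.inv_mem hk.1.1) hg, Subtype.ext ?_, Subtype.ext ?_⟩
      · change (k⁻¹ * g) • (x : Ω) = x'
        rw [mul_smul, g1, inv_smul_eq_iff, hk.1.2]
      · change (k⁻¹ * g) • (y : Ω) = y'
        rw [mul_smul, g2, inv_smul_eq_iff, hk.2])
    ⟨a, fun s => (hPK s.2).1.2⟩ ⟨b, fun s => (hPK s.2).2⟩ fun e => hab (congrArg Subtype.val e)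
  intro c hc
  have key : ∀ j, ∃ z : fixSub Ω P, ∃ h ∈ H, h • a = a ∧ h • b = b ∧ h • c j = z := fun j => by
    let S : SubMulAction P Ω := ⟨{z | ∃ h ∈ H, h • a = a ∧ h • b = b ∧ h • c j = z}, by
      rintro s _ ⟨h, hh, h1, h4, rfl⟩
      exact ⟨s * h, H.mul_mem (hPH s.2) hh, by rw [mul_smul, h1, (hPK s.2).1.2],
        by rw [mul_smul, h4, (hPK s.2).2], mul_smul _ _ _⟩⟩
    obtain ⟨z, hz⟩ := hP.nonempty_fixed_point_of_prime_not_dvd_card S fun e => by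
      have := e.trans (ncard_rel_dvd (H := H) hG hab (hc j).1 (hc j).2)
      omega
    exact ⟨⟨z, fun s => congrArg Subtype.val (hz s)⟩, z.2⟩
  choose z d hd da db dc using key
  obtain ⟨j, k, hjk, h, hh, ha, hb, e⟩ := this z fun j =>
    ⟨fun e => (hc j).1 (MulAction.injective _ ((dc j).trans ((congrArg Subtype.val e).trans (da j).symm))),
      fun e => (hc j).2 (MulAction.injective _ ((dc j).trans ((congrArg Subtype.val e).trans (db j).symm)))⟩
  refine ⟨j, k, hjk, (d k)⁻¹ * h * d j, H.mul_mem (H.mul_mem (H.inv_mem (hd k)) hh) (hd j), ?_, ?_, ?_⟩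
  · rw [mul_smul, mul_smul, da, inv_smul_eq_iff, da]; exact congrArg Subtype.val ha
  · rw [mul_smul, mul_smul, db, inv_smul_eq_iff, db]; exact congrArg Subtype.val hb
  · rw [mul_smul, mul_smul, dc, inv_smul_eq_iff, dc]; exact congrArg Subtype.val e

end CfsgLib.Perm
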